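import Cfsg.Agent.Lib.RankTwoSylow.Extension
import Cfsg.Prelude.Def_TwoFusion
import Mathlib.GroupTheory.Transfer

/-!
Sylow two-subgroups of groups of two-rank two without isolated involutions.
-/

set_option autoImplicit false
set_option linter.unusedSectionVars false

namespace CfsgLib.RankTwoSylow

open Subgroup

universe u

/-- An automorphism of odd order that moves one of three involutions permutes them transitively. -/
theorem trans_of_moves {S : Type u} [Group S] (φ : MulAut S) {j : ℕ} (hj : φ ^ (2 * j + 1) = 1) {z a : S}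
    (hz : z * z = 1) (hz1 : z ≠ 1) (hlist : ∀ t : S, t * t = 1 → t = 1 ∨ t = z ∨ t = a ∨ t = z * a)
    (hmove : φ z ≠ z) : ∀ t : S, t ≠ 1 → t * t = 1 → ∃ i : ℕ, (φ ^ i) z = t := by
  have inv : ∀ w : S, w * w = 1 → φ w * φ w = 1 := fun w hw => by rw [← map_mul, hw, map_one]
  have ne1 : ∀ w : S, w ≠ 1 → φ w ≠ 1 := fun w hw e => hw (φ.injective (by rw [e, map_one]))
  have fix2 : ∀ w : S, φ (φ w) = w → φ w = w := by
    intro w hw
    have hpow : ∀ i : ℕ, (φ ^ (2 * i)) w = w := by
      intro i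
      induction i with
      | zero => simp
      | succ i ih =>
        rw [show 2 * (i + 1) = 2 * i + 1 + 1 by ring, pow_succ, pow_succ, MulAut.mul_apply, MulAut.mul_apply, hw, ih]
    have e := hpow (j + 1)
    rw [show 2 * (j + 1) = 2 * j + 1 + 1 by ring, pow_succ, hj, MulAut.mul_apply, MulAut.one_apply] at e
    exact e
  intro t ht1 ht
  by_contra hno
  push Not at hno
  have h0 : z ≠ t := by simpa using hno 0
  have h1 : φ z ≠ t := by simpa using hno 1
  have h2 : φ (φ z) ≠ t := by simpa [pow_two, MulAut.mul_apply] using hno 2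
  have d1 : φ (φ z) ≠ z := fun e => hmove (fix2 z e)
  have d2 : φ (φ z) ≠ φ z := fun e => hmove (φ.injective e)
  have m : ∀ w : S, w ≠ 1 → w * w = 1 → w = z ∨ w = a ∨ w = z * a := fun w hw1 hw => (hlist w hw).resolve_left hw1
  rcases m _ hz1 hz with e0 | e0 | e0 <;>
    rcases m _ (ne1 z hz1) (inv z hz) with e1 | e1 | e1 <;>
    rcases m _ (ne1 _ (ne1 z hz1)) (inv _ (inv z hz)) with e2 | e2 | e2 <;>
    rcases m t ht1 ht with e3 | e3 | e3 <;>
    first
      | exact h0 (e0.trans e3.symm)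
      | exact h1 (e1.trans e3.symm)
      | exact h2 (e2.trans e3.symm)
      | exact hmove (e1.trans e0.symm)
      | exact d1 (e2.trans e0.symm)
      | exact d2 (e2.trans e1.symm)

variable {G : Type u} [Group G] [Finite G]

/-- A two-subgroup centralizing a central element of a Sylow subgroup moves into it fixing that element. -/
theorem exists_conj_into (S : Sylow 2 G) {z : G} (hzc : ∀ g ∈ (S : Subgroup G), g * z = z * g) {Q : Subgroup G}
    (hQ : IsPGroup 2 Q) (hQz : ∀ q ∈ Q, q * z = z * q) :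
    ∃ c : G, c * z * c⁻¹ = z ∧ ∀ q ∈ Q, c * q * c⁻¹ ∈ (S : Subgroup G) := by
  haveI : Fact (Nat.Prime 2) := ⟨Nat.prime_two⟩
  set C := centralizer ({z} : Set G) with hC
  have hSC : (S : Subgroup G) ≤ C := fun g hg => mem_centralizer_singleton_iff.mpr (hzc g hg)
  have hQC : Q ≤ C := fun g hg => mem_centralizer_singleton_iff.mpr (hQz g hg)
  let SC : Sylow 2 C := S.subtype hSC
  obtain ⟨R, hR⟩ := (hQ.of_equiv (subgroupOfEquivOfLe hQC).symm).exists_le_sylow
  obtain ⟨c, hc⟩ := MulAction.exists_smul_eq C R SC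
  refine ⟨(c : G), mul_inv_eq_iff_eq_mul.mpr (mem_centralizer_singleton_iff.mp c.2), fun q hq => ?_⟩
  have hm : c * (⟨q, hQC hq⟩ : C) * c⁻¹ ∈ (SC : Subgroup C) := by
    rw [← hc, Sylow.coe_subgroup_smul]
    exact ⟨⟨q, hQC hq⟩, hR hq, rfl⟩
  exact hm

/-- The two cases. -/
theorem main (h2 : Cfsg.PRankLE 2 2 G) (h1 : ¬ Cfsg.PRankLE 2 1 G)
    (hiso : ∀ z : G, ¬ Cfsg.IsIsolatedInvolution z) (S : Sylow 2 G) :
    Cfsg.PRankLE 2 2 ↥(S : Subgroup G) ∧ ¬ Cfsg.PRankLE 2 1 ↥(S : Subgroup G) ∧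
    (Shape ↥(S : Subgroup G) ∨ ∃ φ : MulAut ↥(S : Subgroup G),
      ∀ t u : ↥(S : Subgroup G), orderOf t = 2 → orderOf u = 2 → ∃ k : ℕ, (φ ^ k) t = u) := by
  classical
  haveI : Fact (Nat.Prime 2) := ⟨Nat.prime_two⟩
  have hr : Cfsg.PRankLE 2 2 ↥(S : Subgroup G) := by
    intro A hA hA2
    rw [← Subgroup.card_map_of_injective (Subgroup.subtype_injective _)]
    refine h2 (A.map (S : Subgroup G).subtype) inferInstance ?_
    rintro _ ⟨b, hb, rfl⟩
    rw [← map_pow, hA2 b hb, map_one]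
  have hr1 : ¬ Cfsg.PRankLE 2 1 ↥(S : Subgroup G) := by
    simp only [Cfsg.PRankLE, not_forall, not_le] at h1 ⊢
    obtain ⟨E, hE, hE2, hEc⟩ := h1
    haveI := hE
    obtain ⟨Q, hQ⟩ := (show IsPGroup 2 E from fun e => ⟨1, Subtype.ext (by simpa using hE2 e e.2)⟩).exists_le_sylow
    obtain ⟨g, hg⟩ := MulAction.exists_smul_eq G Q S
    let f : E →* ↥(S : Subgroup G) := ((MulAut.conj g : G ≃* G).toMonoidHom.comp E.subtype).codRestrict _ fun e => by
      rw [← hg, Sylow.coe_subgroup_smul]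
      exact ⟨e, hQ e.2, rfl⟩
    have hf : Function.Injective f := fun a b e =>
      Subtype.ext ((MulAut.conj g).injective (congrArg Subtype.val e))
    refine ⟨f.range, ⟨⟨?_⟩⟩, ?_, ?_⟩
    · rintro ⟨_, a, rfl⟩ ⟨_, b, rfl⟩
      exact Subtype.ext (show f a * f b = f b * f a by rw [← map_mul, hE.is_comm.comm a b, map_mul])
    · rintro _ ⟨a, rfl⟩
      rw [← map_pow, show a ^ 2 = 1 from Subtype.ext (hE2 a a.2), map_one]
    · rwa [← Nat.card_congr (MonoidHom.ofInjective hf).toEquiv]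
  refine ⟨hr, hr1, ?_⟩
  by_cases hC : ∃ x : ↥(S : Subgroup G), orderOf x = 2 ∧ Nat.card ↥(centralizer ({x} : Set ↥(S : Subgroup G))) = 4
  · obtain ⟨x, hx, hxc⟩ := hC
    exact Or.inl (shape_of_card_four S.2 hr1 hx hxc)
  push Not at hC
  obtain ⟨W, z, a₀, hWn, hW, hzc⟩ := exists_normal_four S.2 hr hr1 hC
  haveI := hWn
  have hF₀ : Frame ↥(S : Subgroup G) z a₀ := ⟨S.2, hr, hW.z2, hW.a2, hW.z1, hW.a1, hW.za, hzc, fun g => by
    rcases hW.list _ (hWn.conj_mem a₀ hW.ha g) with e | e | e | e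
    · exact absurd (conj_eq_one_iff.mp e) hW.a1
    · refine absurd ?_ hW.za
      calc z = g⁻¹ * (g * z * g⁻¹) * g := by group
        _ = g⁻¹ * z * g := by rw [mul_inv_eq_iff_eq_mul.mpr (hzc g)]
        _ = a₀ := by rw [← e]; group
    · exact Or.inl e
    · exact Or.inr e⟩
  have hzS : ∀ g ∈ (S : Subgroup G), g * (z : G) = z * g := fun g hg => congrArg Subtype.val (hzc ⟨g, hg⟩)
  have hordz : orderOf (z : G) = 2 := orderOf_eq_prime (by rw [pow_two]; exact congrArg Subtype.val hW.z2)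
    fun e => hW.z1 (Subtype.ext e)
  -- a conjugate of `z` in `S`
  obtain ⟨k, hkS, hk⟩ : ∃ k : G, k * z * k⁻¹ ∈ (S : Subgroup G) ∧ k * z * k⁻¹ ≠ z := by
    have := hiso (z : G)
    simp only [Cfsg.IsIsolatedInvolution, not_and, not_forall] at this
    obtain ⟨k₀, hc, hne⟩ := this hordz
    have hp : IsPGroup 2 (zpowers (k₀ * z * k₀⁻¹)) := by
      refine IsPGroup.of_card (n := 1) ?_
      rw [Nat.card_zpowers, pow_one]
      exact (orderOf_injective (MulAut.conj k₀).toMonoidHom (MulEquiv.injective _) _).trans hordz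
    obtain ⟨c, hcz, hcS⟩ := exists_conj_into S hzS hp (fun q hq => by
      obtain ⟨i, rfl⟩ := mem_zpowers_iff.mp hq
      exact (hc.symm.zpow_left i).eq)
    refine ⟨c * k₀, ?_, fun e => hne ?_⟩
    · rw [show c * k₀ * z * (c * k₀)⁻¹ = c * (k₀ * z * k₀⁻¹) * c⁻¹ by group]
      exact hcS _ (mem_zpowers _)
    · calc k₀ * z * k₀⁻¹ = c⁻¹ * (c * k₀ * z * (c * k₀)⁻¹) * c := by group
        _ = c⁻¹ * (c * z * c⁻¹) * c := by rw [e, hcz]
        _ = z := by group
  set x : ↥(S : Subgroup G) := ⟨k * z * k⁻¹, hkS⟩ with hx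
  have hx2 : x * x = 1 := Subtype.ext (show k * z * k⁻¹ * (k * z * k⁻¹) = 1 by
    rw [show k * (z : G) * k⁻¹ * (k * z * k⁻¹) = k * (z * z) * k⁻¹ by group,
      show (z : G) * z = 1 from congrArg Subtype.val hW.z2]
    group)
  have hx1 : x ≠ 1 := fun e => hW.z1 (Subtype.ext (conj_eq_one_iff.mp (congrArg Subtype.val e)))
  have hxz : x ≠ z := fun e => hk (congrArg Subtype.val e)
  by_cases htop : ∀ g : ↥(S : Subgroup G), g * a₀ = a₀ * g
  · -- all involutions are central
    right
    have hlist : ∀ t : ↥(S : Subgroup G), t * t = 1 → t = 1 ∨ t = z ∨ t = a₀ ∨ t = z * a₀ :=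
      fun t ht => hF₀.omega (mem_centralizer_singleton_iff.mpr (htop t)) ht
    have hcen : ∀ t : ↥(S : Subgroup G), t * t = 1 → ∀ g, g * t = t * g := fun t ht g => by
      rcases hlist t ht with e | e | e | e <;> subst e
      exacts [by simp, hzc g, htop g, by rw [← mul_assoc, hzc g, mul_assoc, htop g, mul_assoc]]
    have hmemC : ∀ t : ↥(S : Subgroup G), t * t = 1 → (t : G) ∈ centralizer ((S : Subgroup G) : Set G) :=
      fun t ht g hg => congrArg Subtype.val (hcen t ht ⟨g, hg⟩)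
    obtain ⟨n, hn, hnz⟩ := S.conj_eq_normalizer_conj_of_mem_centralizer (z : G) k⁻¹ (hmemC z hW.z2) (by
      rw [inv_inv]; exact hmemC x hx2)
    rw [inv_inv] at hnz
    obtain ⟨e, m, hm, hem⟩ := Nat.exists_eq_two_pow_mul_odd (orderOf_pos n⁻¹).ne'
    obtain ⟨j, rfl⟩ := hm
    set u := n⁻¹ ^ 2 ^ e with hu
    have huN : u ∈ normalizer ((S : Subgroup G) : Set G) := pow_mem (inv_mem hn) _
    let φ : MulAut ↥(S : Subgroup G) :=
      MulAut.conjNormal (H := (S : Subgroup G).subgroupOf (normalizer ((S : Subgroup G) : Set G))) ⟨u, huN⟩ |>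
        fun ψ => ((subgroupOfEquivOfLe le_normalizer).symm.trans (ψ.trans (subgroupOfEquivOfLe le_normalizer)))
    have hφ : ∀ t, ((φ t : ↥(S : Subgroup G)) : G) = u * t * u⁻¹ := fun t => rfl
    have hφpow : ∀ i : ℕ, ∀ t, (((φ ^ i) t : ↥(S : Subgroup G)) : G) = u ^ i * t * (u ^ i)⁻¹ := by
      intro i
      induction i with
      | zero => intro t; simp
      | succ i ih => intro t; rw [pow_succ, MulAut.mul_apply, ih, hφ, pow_succ]; group
    have hu1 : u ^ (2 * j + 1) = 1 := by rw [hu, ← pow_mul, ← hem, pow_orderOf_eq_one]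
    have hj : φ ^ (2 * j + 1) = 1 := MulEquiv.ext fun t => Subtype.ext (by rw [hφpow, hu1]; simp)
    have hmove : φ z ≠ z := by
      intro e0
      have huz : Commute u (z : G) := mul_inv_eq_iff_eq_mul.mp (congrArg Subtype.val e0 :)
      have hmS : n⁻¹ ^ (2 * j + 1) ∈ (S : Subgroup G) := by
        have hp : IsPGroup 2 (zpowers (n⁻¹ ^ (2 * j + 1))) := by
          refine IsPGroup.of_card (n := e) ?_
          rw [Nat.card_zpowers, orderOf_pow_of_dvd (by omega) (Dvd.intro_left _ hem.symm), hem,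
            Nat.mul_div_cancel _ (by omega)]
        have := hp.inf_normalizer_sylow S
        exact (this.le ⟨mem_zpowers _, pow_mem (inv_mem hn) _⟩).2
      have hmz : Commute (n⁻¹ ^ (2 * j + 1)) (z : G) := hzS _ hmS
      have hcop : IsCoprime ((2 ^ e : ℕ) : ℤ) ((2 * j + 1 : ℕ) : ℤ) :=
        Nat.isCoprime_iff_coprime.mpr (Nat.Coprime.pow_left _ ((Nat.coprime_two_left).mpr ⟨j, rfl⟩))
      obtain ⟨p, q, hpq⟩ := hcop
      have hnz' : Commute n⁻¹ (z : G) := by
        have : n⁻¹ = u ^ p * (n⁻¹ ^ (2 * j + 1)) ^ q := by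
          rw [hu, ← zpow_natCast, ← zpow_natCast n⁻¹ (2 * j + 1), ← zpow_mul, ← zpow_mul, ← zpow_add,
            mul_comm _ p, mul_comm _ q, hpq, zpow_one]
        rw [this]
        exact (huz.zpow_left p).mul_left (hmz.zpow_left q)
      apply hk
      rw [hnz]
      calc n⁻¹ * z * n = z * n⁻¹ * n := by rw [hnz'.eq]
        _ = z := by group
    have hiz : ∀ t : ↥(S : Subgroup G), orderOf t = 2 → ∃ i : ℕ, (φ ^ i) z = t := fun t ht =>
      trans_of_moves φ hj hW.z2 hW.z1 hlist hmove t (fun e => by rw [e, orderOf_one] at ht; omega)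
        (by rw [← pow_two]; exact orderOf_dvd_iff_pow_eq_one.mp ht.dvd)
    refine ⟨φ, fun t t' ht ht' => ?_⟩
    obtain ⟨i, hi⟩ := hiz t ht
    obtain ⟨i', hi'⟩ := hiz t' ht'
    refine ⟨i' + i * (2 * j), ?_⟩
    rw [← hi, ← MulAut.mul_apply, ← pow_add, show i' + i * (2 * j) + i = (2 * j + 1) * i + i' by ring, pow_add,
      pow_mul, hj, one_pow, one_mul, hi']
  left
  push Not at htop
  obtain ⟨s, hs₀⟩ := htop
  -- a conjugate of `z` in the normal four-group
  obtain ⟨a, l, hF, hs, hl⟩ : ∃ (a : ↥(S : Subgroup G)) (l : G), Frame ↥(S : Subgroup G) z a ∧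
      s * a ≠ a * s ∧ l * z * l⁻¹ = (a : G) := by
    have hsym : Frame ↥(S : Subgroup G) z (z * a₀) := by
      refine ⟨S.2, hr, hW.z2, ?_, hW.z1, ?_, ?_, hzc, fun g => ?_⟩
      · rw [show z * a₀ * (z * a₀) = z * (a₀ * z) * a₀ by group, hzc a₀,
          show z * (z * a₀) * a₀ = z * z * (a₀ * a₀) by group, hW.z2, hW.a2, one_mul]
      · exact fun e => hW.za (by rw [eq_inv_of_mul_eq_one_left e, inv_eq_of_mul_eq_one_left hW.a2])
      · exact fun e => hW.a1 (mul_eq_left.mp e.symm)
      · have e0 : g * (z * a₀) * g⁻¹ = z * (g * a₀ * g⁻¹) := by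
          rw [← mul_assoc, hzc g]; group
        rcases hF₀.conj g with e | e
        · exact Or.inl (by rw [e0, e])
        · exact Or.inr (by rw [e0, e])
    have hs' : s * (z * a₀) ≠ z * a₀ * s := fun e => hs₀ (by
      rw [← mul_assoc, hzc s, mul_assoc, mul_assoc] at e
      exact mul_left_cancel e)
    suffices ∃ (b : ↥(S : Subgroup G)) (l : G), b ∈ centralizer ({a₀} : Set ↥(S : Subgroup G)) ∧
        b * b = 1 ∧ b ≠ 1 ∧ b ≠ z ∧ l * z * l⁻¹ = (b : G) by
      obtain ⟨b, l, hbT, hb2, hb1, hbz, hl⟩ := this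
      rcases hF₀.omega hbT hb2 with e | e | e | e
      · exact absurd e hb1
      · exact absurd e hbz
      · subst e; exact ⟨_, l, hF₀, hs₀, hl⟩
      · subst e; exact ⟨_, l, hsym, hs', hl⟩
    by_cases hxT : x ∈ centralizer ({a₀} : Set ↥(S : Subgroup G))
    · exact ⟨x, k, hxT, hx2, hx1, hxz, rfl⟩
    -- the centralizer of `x` moved into `S`
    set C := centralizer ({x} : Set ↥(S : Subgroup G)) with hCdef
    have hCG : IsPGroup 2 (C.map (S : Subgroup G).subtype |>.map (MulAut.conj k⁻¹).toMonoidHom) :=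
      ((S.2.to_subgroup C).map _).map _
    obtain ⟨c, hcz, hcS⟩ := exists_conj_into S hzS hCG (by
      rintro _ ⟨_, ⟨w, hw, rfl⟩, rfl⟩
      have e : (w : G) * (k * z * k⁻¹) = k * z * k⁻¹ * w :=
        congrArg Subtype.val (mem_centralizer_singleton_iff.mp hw)
      show k⁻¹ * w * k⁻¹⁻¹ * z = z * (k⁻¹ * w * k⁻¹⁻¹)
      calc k⁻¹ * (w : G) * k⁻¹⁻¹ * z = k⁻¹ * (w * (k * z * k⁻¹)) * k := by group
        _ = _ := by rw [e]; group)
    set l := c * k⁻¹ with hl
    have hlx : l * (x : G) * l⁻¹ = z := by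
      rw [hl, show c * k⁻¹ * (x : G) * (c * k⁻¹)⁻¹ = c * (k⁻¹ * (k * z * k⁻¹) * k) * c⁻¹ by rw [hx]; group]
      rw [show k⁻¹ * (k * (z : G) * k⁻¹) * k = z by group, hcz]
    have hlS : ∀ w ∈ C, l * (w : G) * l⁻¹ ∈ (S : Subgroup G) := fun w hw => by
      have := hcS _ ⟨_, ⟨w, hw, rfl⟩, rfl⟩
      rw [hl, show c * k⁻¹ * (w : G) * (c * k⁻¹)⁻¹ = c * (k⁻¹ * w * k⁻¹⁻¹) * c⁻¹ by group]
      exact this
    have hxC : x ∈ C := mem_centralizer_singleton_iff.mpr rfl
    -- an element of order four in `C` squaring to `z`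
    obtain ⟨v, hvC, hv⟩ : ∃ v ∈ C, v * v = z := by
      obtain ⟨i, hi⟩ := (S.2.to_subgroup C).exists_card_eq
      have h8 : 4 < Nat.card C := by
        have h4 : Nat.card C ≠ 4 := hC x (orderOf_eq_prime (by rw [pow_two, hx2]) hx1)
        have hge : 4 ≤ Nat.card C := by
          let t : Finset ↥(S : Subgroup G) := {1, z, x}
          have ht : t.card = 3 := by
            simp only [t]
            rw [Finset.card_insert_of_notMem, Finset.card_insert_of_notMem, Finset.card_singleton] <;>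
              simp only [Finset.mem_insert, Finset.mem_singleton, not_or]
            · exact hxz.symm
            · exact ⟨Ne.symm hW.z1, Ne.symm hx1⟩
          have hsub : (t : Set ↥(S : Subgroup G)) ⊆ C := by
            intro w hw
            simp only [t, Finset.coe_insert, Finset.coe_singleton, Set.mem_insert_iff, Set.mem_singleton_iff] at hw
            rcases hw with rfl | rfl | rfl
            exacts [C.one_mem, mem_centralizer_singleton_iff.mpr (hzc x).symm, hxC]
          have h3 : 3 ≤ Nat.card C := by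
            have := Set.ncard_le_ncard hsub (Set.toFinite _)
            rw [Set.ncard_coe_finset, ht] at this
            exact this.trans_eq (Nat.card_coe_set_eq _).symm
          rw [hi] at h3 ⊢
          rcases i with - | - | i
          · norm_num at h3
          · norm_num at h3
          · exact Nat.pow_le_pow_right (show 0 < 2 by norm_num) (show 2 ≤ i + 1 + 1 by omega)
        omega
      -- an element of `C ∩ T` outside `⟨z⟩`
      obtain ⟨w, hwC, hwT, hw1, hwz⟩ : ∃ w ∈ C, w ∈ centralizer ({a₀} : Set ↥(S : Subgroup G)) ∧ w ≠ 1 ∧ w ≠ z := by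
        by_contra hno
        push Not at hno
        have : Nat.card C ≤ Nat.card (Bool × Bool) := by
          let f : C → Bool × Bool := fun w =>
            (decide ((w : ↥(S : Subgroup G)) ∈ centralizer ({a₀} : Set ↥(S : Subgroup G))),
              decide ((w : ↥(S : Subgroup G)) = 1 ∨ (w : ↥(S : Subgroup G)) = x))
          refine Nat.card_le_card_of_injective f fun w w' hww => ?_
          simp only [f, Prod.mk.injEq, decide_eq_decide] at hww
          obtain ⟨e1, e2⟩ := hww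
          refine Subtype.ext ?_
          by_cases hwT : (w : ↥(S : Subgroup G)) ∈ centralizer ({a₀} : Set ↥(S : Subgroup G))
          · have cl : ∀ r : C, (r : ↥(S : Subgroup G)) ∈ centralizer ({a₀} : Set ↥(S : Subgroup G)) →
                ((r : ↥(S : Subgroup G)) = 1 ∧ ((r : ↥(S : Subgroup G)) = 1 ∨ (r : ↥(S : Subgroup G)) = x)) ∨
                ((r : ↥(S : Subgroup G)) = z ∧ ¬ ((r : ↥(S : Subgroup G)) = 1 ∨ (r : ↥(S : Subgroup G)) = x)) := by
              intro r hr
              by_cases h : (r : ↥(S : Subgroup G)) = 1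
              · exact Or.inl ⟨h, Or.inl h⟩
              · have e := hno r r.2 hr h
                refine Or.inr ⟨e, ?_⟩
                rintro (h' | h')
                · exact h h'
                · exact hxz (h'.symm.trans e)
            rcases cl w hwT with ⟨a1, b1⟩ | ⟨a1, b1⟩ <;> rcases cl w' (e1.mp hwT) with ⟨a2, b2⟩ | ⟨a2, b2⟩
            · rw [a1, a2]
            · exact absurd (e2.mp b1) b2
            · exact absurd (e2.mpr b2) b1
            · rw [a1, a2]
          · have cl : ∀ r : C, (r : ↥(S : Subgroup G)) ∉ centralizer ({a₀} : Set ↥(S : Subgroup G)) →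
                ((r : ↥(S : Subgroup G)) = x ∧ ((r : ↥(S : Subgroup G)) = 1 ∨ (r : ↥(S : Subgroup G)) = x)) ∨
                ((r : ↥(S : Subgroup G)) = x * z ∧ ¬ ((r : ↥(S : Subgroup G)) = 1 ∨ (r : ↥(S : Subgroup G)) = x)) := by
              intro r hr
              have hrx := hF₀.mul_mem' hxT hr
              by_cases h : x * (r : ↥(S : Subgroup G)) = 1
              · left
                have e : (r : ↥(S : Subgroup G)) = x := by
                  rw [eq_inv_of_mul_eq_one_right h, inv_eq_of_mul_eq_one_left hx2]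
                exact ⟨e, Or.inr e⟩
              · have e := hno _ (C.mul_mem hxC r.2) hrx h
                have e' : (r : ↥(S : Subgroup G)) = x * z := by rw [← e, ← mul_assoc, hx2, one_mul]
                refine Or.inr ⟨e', ?_⟩
                rintro (h' | h')
                · exact hr (h' ▸ one_mem _)
                · exact hW.z1 (mul_eq_left.mp (e'.symm.trans h'))
            rcases cl w hwT with ⟨a1, b1⟩ | ⟨a1, b1⟩ <;>
              rcases cl w' (fun h => hwT (e1.mpr h)) with ⟨a2, b2⟩ | ⟨a2, b2⟩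
            · rw [a1, a2]
            · exact absurd (e2.mp b1) b2
            · exact absurd (e2.mpr b2) b1
            · rw [a1, a2]
        rw [Nat.card_prod, Nat.card_eq_fintype_card (α := Bool), Fintype.card_bool] at this
        omega
      obtain ⟨j, hj⟩ := S.2 w
      have hex : ∃ j, w ^ 2 ^ j = 1 := ⟨j, hj⟩
      have honly : ∀ r ∈ C, r ∈ centralizer ({a₀} : Set ↥(S : Subgroup G)) → r * r = 1 → r = 1 ∨ r = z := by
        intro r hrC hrT hr2
        rcases hF₀.omega hrT hr2 with e | e | e | e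
        · exact Or.inl e
        · exact Or.inr e
        · exfalso; subst e; exact hxT (mem_centralizer_singleton_iff.mpr (mem_centralizer_singleton_iff.mp hrC).symm)
        · exfalso; subst e
          refine hxT (mem_centralizer_singleton_iff.mpr ?_)
          have e := mem_centralizer_singleton_iff.mp hrC
          rw [mul_assoc, ← mul_assoc x, hzc x, mul_assoc] at e
          exact (mul_left_cancel e).symm
      have hj0 : Nat.find hex ≠ 0 := fun h => hw1 (by
        have h' := Nat.find_spec hex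
        rwa [h, pow_zero, pow_one] at h')
      obtain ⟨i₁, hi₁⟩ := Nat.exists_eq_succ_of_ne_zero hj0
      have hj1 : i₁ ≠ 0 := fun h => by
        have h' := Nat.find_spec hex
        rw [hi₁, h, pow_one, pow_two] at h'
        rcases honly w hwC hwT h' with e | e
        exacts [hw1 e, hwz e]
      obtain ⟨i₂, rfl⟩ := Nat.exists_eq_succ_of_ne_zero hj1
      refine ⟨w ^ 2 ^ i₂, pow_mem hwC _, (honly _ ?_ ?_ ?_).resolve_left ?_⟩
      · exact C.mul_mem (pow_mem hwC _) (pow_mem hwC _)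
      · exact mul_mem (pow_mem hwT _) (pow_mem hwT _)
      · have h' := Nat.find_spec hex
        rw [hi₁, pow_succ, pow_succ, pow_mul, pow_mul, pow_two, pow_two] at h'
        exact h'
      · have h' := Nat.find_min hex (show i₂ + 1 < Nat.find hex by omega)
        rwa [pow_succ, pow_mul, pow_two] at h'
    set w : ↥(S : Subgroup G) := ⟨l * v * l⁻¹, hlS v hvC⟩ with hw
    have hwz : ((w * w : ↥(S : Subgroup G)) : G) = l * z * l⁻¹ := by
      show l * v * l⁻¹ * (l * v * l⁻¹) = _
      rw [← hv, Subgroup.coe_mul]; group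
    refine ⟨w * w, l, ?_, ?_, ?_, ?_, hwz.symm⟩
    · by_cases hwT : w ∈ centralizer ({a₀} : Set ↥(S : Subgroup G))
      · exact mul_mem hwT hwT
      · exact hF₀.mul_mem' hwT hwT
    · refine Subtype.ext ?_
      rw [Subgroup.coe_mul (S : Subgroup G) (w * w), hwz, show l * (z : G) * l⁻¹ * (l * z * l⁻¹) = l * (z * z) * l⁻¹ by group,
        show (z : G) * z = 1 from congrArg Subtype.val hW.z2]
      simp
    · intro e
      have e' : l * (z : G) * l⁻¹ = 1 := by rw [← hwz, e]; rfl
      exact hW.z1 (Subtype.ext (conj_eq_one_iff.mp e'))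
    · intro e
      have e' : l * (z : G) * l⁻¹ = l * (x : G) * l⁻¹ := by rw [← hwz, e, hlx]
      exact hxz (Subtype.ext (mul_left_cancel (mul_right_cancel e')).symm)
  -- the normalizer of the centralizer of `a`
  set T := centralizer ({a} : Set ↥(S : Subgroup G)) with hT
  have hsT : s ∉ T := fun h => hs (mem_centralizer_singleton_iff.mp h)
  have hidx : T.index = 2 := by
    refine index_eq_two_iff.mpr ⟨s, fun b => ?_⟩
    by_cases hb : b ∈ T
    · exact Or.inr ⟨hb, fun hh => hsT (by simpa using T.mul_mem (T.inv_mem hb) hh)⟩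
    · exact Or.inl ⟨hF.mul_mem' hb hsT, hb⟩
  set TG : Subgroup G := T.map (S : Subgroup G).subtype with hTG
  have hTGp : IsPGroup 2 TG := (S.2.to_subgroup T).map _
  have hTGc : Nat.card TG * 2 = Nat.card ↥(S : Subgroup G) := by
    rw [hTG, Subgroup.card_map_of_injective (Subgroup.subtype_injective _)]
    have := T.card_mul_index
    rwa [hidx] at this
  have hTGa : TG ≤ centralizer ({(a : G)} : Set G) := by
    rintro _ ⟨t, ht, rfl⟩
    exact mem_centralizer_singleton_iff.mpr (congrArg Subtype.val (mem_centralizer_singleton_iff.mp ht))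
  obtain ⟨Q, hQp, hTQ, hQa, hQc⟩ : ∃ Q : Subgroup G, IsPGroup 2 Q ∧ TG ≤ Q ∧
      Q ≤ centralizer ({(a : G)} : Set G) ∧ Nat.card ↥(S : Subgroup G) ≤ Nat.card Q := by
    set A := centralizer ({(a : G)} : Set G) with hA
    set SA := (S : Subgroup G).map (MulAut.conj l).toMonoidHom with hSA
    have hSA' : SA ≤ A := by
      rintro _ ⟨g, hg, rfl⟩
      refine mem_centralizer_singleton_iff.mpr ?_
      rw [← hl]
      show l * g * l⁻¹ * (l * z * l⁻¹) = l * z * l⁻¹ * (l * g * l⁻¹)
      rw [show l * g * l⁻¹ * (l * z * l⁻¹) = l * (g * z) * l⁻¹ by group, hzS g hg]; group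
    obtain ⟨R, hR⟩ := (hTGp.of_equiv (subgroupOfEquivOfLe hTGa).symm).exists_le_sylow
    obtain ⟨R', hR'⟩ := ((S.2.map (MulAut.conj l).toMonoidHom).of_equiv (subgroupOfEquivOfLe hSA').symm).exists_le_sylow
    refine ⟨(R : Subgroup A).map A.subtype, R.2.map _, fun g hg => ⟨⟨g, hTGa hg⟩, hR hg, rfl⟩, map_subtype_le _, ?_⟩
    rw [Subgroup.card_map_of_injective (Subgroup.subtype_injective _), Nat.card_congr (R.equiv R').toEquiv]
    refine le_of_eq_of_le ?_ (card_le_of_le hR')
    rw [Nat.card_congr (subgroupOfEquivOfLe hSA').toEquiv, hSA, Subgroup.card_map_of_injective (MulEquiv.injective _)]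
  obtain ⟨s₁, hs₁Q, hs₁N, hs₁T⟩ : ∃ g ∈ Q, g ∈ normalizer (TG : Set G) ∧ g ∉ TG := by
    haveI : Group.IsNilpotent Q := hQp.isNilpotent
    have hlt : ¬ Q ≤ TG := fun h => by
      have := hQc.trans (card_le_of_le h)
      have : 0 < Nat.card TG := Nat.card_pos
      omega
    obtain ⟨w, hwN, hwT⟩ := SetLike.exists_of_lt (Group.normalizerCondition_of_isNilpotent (G := Q) (TG.subgroupOf Q) (by
      rw [lt_top_iff_ne_top, Ne, subgroupOf_eq_top]; exact hlt))
    exact ⟨w, w.2, mem_normalizer_fintype fun t ht => (mem_normalizer_iff.mp hwN ⟨t, hTQ ht⟩).mp ht, hwT⟩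
  have hmov : s₁ * (z : G) * s₁⁻¹ ≠ z := by
    intro e
    have hQ' : IsPGroup 2 ↥(TG ⊔ zpowers s₁) := hQp.to_le (sup_le hTQ (zpowers_le.mpr hs₁Q))
    have hcz : TG ⊔ zpowers s₁ ≤ centralizer ({(z : G)} : Set G) := sup_le (by
      rintro _ ⟨t, -, rfl⟩
      exact mem_centralizer_singleton_iff.mpr (hzS _ t.2))
      (zpowers_le.mpr (mem_centralizer_singleton_iff.mpr (mul_inv_eq_iff_eq_mul.mp e)))
    obtain ⟨c, hcz', hcS⟩ := exists_conj_into S hzS hQ' fun q hq => mem_centralizer_singleton_iff.mp (hcz hq)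
    set M := (TG ⊔ zpowers s₁).map (MulAut.conj c).toMonoidHom with hM
    have hMS : M ≤ (S : Subgroup G) := by
      rintro _ ⟨q, hq, rfl⟩
      exact hcS q hq
    have hMeq : M = (S : Subgroup G) := by
      refine eq_of_le_of_card_ge hMS ?_
      rw [hM, Subgroup.card_map_of_injective (MulEquiv.injective _), ← hTGc]
      obtain ⟨i, hi⟩ := hQ'.exists_card_eq
      obtain ⟨i', hi'⟩ := hTGp.exists_card_eq
      have hlt : Nat.card TG < Nat.card ↥(TG ⊔ zpowers s₁) := by
        refine lt_of_le_of_ne (card_le_of_le le_sup_left) fun e' => hs₁T ?_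
        rw [eq_of_le_of_card_ge le_sup_left e'.ge]
        exact mem_sup_right (mem_zpowers _)
      rw [hi, hi'] at hlt ⊢
      rw [← pow_succ]
      exact Nat.pow_le_pow_right (show 0 < 2 by norm_num) ((Nat.pow_lt_pow_iff_right (by norm_num)).mp hlt)
    have haT : (a : G) ∈ TG ⊔ zpowers s₁ := mem_sup_left ⟨a, mem_centralizer_singleton_iff.mpr rfl, rfl⟩
    set b : ↥(S : Subgroup G) := ⟨c * a * c⁻¹, hcS _ haT⟩ with hb
    have hbc : ∀ g : ↥(S : Subgroup G), g * b = b * g := by
      intro g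
      obtain ⟨q, hq, hqg⟩ := hMeq.ge g.2
      refine Subtype.ext (show (g : G) * (c * a * c⁻¹) = c * a * c⁻¹ * g from ?_)
      have hqa : q * (a : G) = a * q := mem_centralizer_singleton_iff.mp
        (sup_le hTGa (zpowers_le.mpr (hQa hs₁Q)) hq)
      rw [← hqg]
      show c * q * c⁻¹ * (c * a * c⁻¹) = c * a * c⁻¹ * (c * q * c⁻¹)
      rw [show c * q * c⁻¹ * (c * a * c⁻¹) = c * (q * a) * c⁻¹ by group, hqa]; group
    have hb2 : b * b = 1 := Subtype.ext (show c * a * c⁻¹ * (c * a * c⁻¹) = 1 by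
      rw [show c * (a : G) * c⁻¹ * (c * a * c⁻¹) = c * (a * a) * c⁻¹ by group,
        show (a : G) * a = 1 from congrArg Subtype.val hF.a2]
      group)
    rcases hF.omega (mem_centralizer_singleton_iff.mpr (hbc a).symm) hb2 with e' | e' | e' | e'
    · exact hF.a1 (Subtype.ext (conj_eq_one_iff.mp (congrArg Subtype.val e')))
    · refine hF.za (Subtype.ext ?_)
      have e'' : c * (a : G) * c⁻¹ = c * z * c⁻¹ := (congrArg Subtype.val e').trans hcz'.symm
      exact (mul_left_cancel (mul_right_cancel e'')).symm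
    · exact hs ((congrArg (s * ·) e').symm.trans ((hbc s).trans (congrArg (· * s) e')))
    · have e3 := hbc s
      rw [e', ← mul_assoc, hzc s, mul_assoc, mul_assoc] at e3
      exact hs (mul_left_cancel e3)
  have hs₁a : s₁ * (a : G) * s₁⁻¹ = a :=
    mul_inv_eq_iff_eq_mul.mpr (mem_centralizer_singleton_iff.mp (hQa hs₁Q))
  -- the automorphism of order three on the four-group
  set q : G := (s : G) * s₁ with hq
  have hqN : q ∈ normalizer (TG : Set G) := mul_mem (mem_normalizer_fintype fun t ht => by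
    obtain ⟨t, ht', rfl⟩ := ht
    exact ⟨s * t * s⁻¹, hF.conj_mem ht' s, rfl⟩) hs₁N
  let ψ : MulAut ↥TG :=
    MulAut.conjNormal (H := TG.subgroupOf (normalizer (TG : Set G))) ⟨q, hqN⟩ |>
      fun ψ => ((subgroupOfEquivOfLe le_normalizer).symm.trans (ψ.trans (subgroupOfEquivOfLe le_normalizer)))
  let eT : T ≃* TG := T.equivMapOfInjective (S : Subgroup G).subtype (Subgroup.subtype_injective _)
  let φ : MulAut T := eT.trans (ψ.trans eT.symm)
  have hφ : ∀ t : T, (((φ t : T) : ↥(S : Subgroup G)) : G) = q * t * q⁻¹ := fun t => by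
    have e := congrArg Subtype.val (eT.apply_symm_apply (ψ (eT t)))
    exact e
  let zT : T := ⟨z, hF.z_mem⟩
  let aT : T := ⟨a, hF.a_mem⟩
  have hsa : (s : G) * a * (s : G)⁻¹ = z * a := congrArg Subtype.val (hF.swap hsT)
  have hsz : (s : G) * z * (s : G)⁻¹ = z := mul_inv_eq_iff_eq_mul.mpr (hzS s s.2)
  have hzz : (z : G) * z = 1 := congrArg Subtype.val hF.z2
  have hs₁z : s₁ * (z : G) * s₁⁻¹ = z * a := by
    obtain ⟨t, ht, hte⟩ := (mem_normalizer_iff.mp hs₁N (z : G)).mp ⟨z, hF.z_mem, rfl⟩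
    have ht2 : t * t = 1 := Subtype.ext (show (t : G) * t = 1 by
      rw [show (t : G) = s₁ * z * s₁⁻¹ from hte,
        show s₁ * (z : G) * s₁⁻¹ * (s₁ * z * s₁⁻¹) = s₁ * (z * z) * s₁⁻¹ by group, hzz]
      group)
    have hte' : (t : G) = s₁ * z * s₁⁻¹ := hte
    rcases hF.omega ht ht2 with e | e | e | e <;> subst e
    · exact absurd (Subtype.ext (conj_eq_one_iff.mp hte'.symm)) hF.z1
    · exact absurd hte'.symm hmov
    · refine absurd (Subtype.ext ?_) hF.za
      exact mul_left_cancel (mul_right_cancel (hte'.symm.trans hs₁a.symm))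
    · exact hte'.symm
  have c1 : φ zT = aT := Subtype.ext (Subtype.ext (by
    rw [hφ, hq]
    show (s : G) * s₁ * z * ((s : G) * s₁)⁻¹ = a
    rw [show (s : G) * s₁ * z * ((s : G) * s₁)⁻¹ = s * (s₁ * z * s₁⁻¹) * (s : G)⁻¹ by group, hs₁z,
      show (s : G) * (z * a) * (s : G)⁻¹ = (s * z * (s : G)⁻¹) * (s * a * (s : G)⁻¹) by group, hsz, hsa,
      ← mul_assoc, hzz, one_mul]))
  have c2 : φ aT = zT * aT := Subtype.ext (Subtype.ext (by
    rw [hφ, hq]
    show (s : G) * s₁ * a * ((s : G) * s₁)⁻¹ = z * a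
    rw [show (s : G) * s₁ * a * ((s : G) * s₁)⁻¹ = s * (s₁ * a * s₁⁻¹) * (s : G)⁻¹ by group, hs₁a, hsa]))
  have c3 : φ (zT * aT) = zT := by
    rw [map_mul, c1, c2]
    refine Subtype.ext ?_
    show a * (z * a) = z
    rw [← mul_assoc, hzc a, mul_assoc, hF.a2, mul_one]
  refine hF.shape φ (fun t u ht1 ht hu1 hu => ?_) hsT
  have m : ∀ w : T, w ≠ 1 → w * w = 1 → w = zT ∨ w = aT ∨ w = zT * aT := fun w hw1 hw => by
    rcases hF.omega w.2 (congrArg Subtype.val hw) with e | e | e | e
    exacts [absurd (Subtype.ext e) hw1, Or.inl (Subtype.ext e), Or.inr (Or.inl (Subtype.ext e)),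
      Or.inr (Or.inr (Subtype.ext e))]
  rcases m t ht1 ht with e | e | e <;> rcases m u hu1 hu with e' | e' | e' <;> subst e <;> subst e'
  exacts [⟨0, rfl⟩, ⟨1, by rw [pow_one, c1]⟩, ⟨2, by rw [pow_two, MulAut.mul_apply, c1, c2]⟩,
    ⟨2, by rw [pow_two, MulAut.mul_apply, c2, c3]⟩, ⟨0, rfl⟩, ⟨1, by rw [pow_one, c2]⟩,
    ⟨1, by rw [pow_one, c3]⟩, ⟨2, by rw [pow_two, MulAut.mul_apply, c3, c1]⟩, ⟨0, rfl⟩]

end CfsgLib.RankTwoSylow
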