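import Cfsg.Agent.Lib.Signalizer.NormalFour
import Cfsg.Prelude.Def_Transfer

/-!
A normal four-subgroup in a two-group of rank two that is not of maximal class.
-/

set_option autoImplicit false
set_option linter.unusedSectionVars false

namespace CfsgLib.RankTwoSylow

open Subgroup

universe u
variable {S : Type u} [Group S] [Finite S]

/-- The elements of a four-group. -/
structure IsFour (W : Subgroup S) (z a : S) : Prop where
  hz : z ∈ W
  ha : a ∈ W
  z2 : z * z = 1
  a2 : a * a = 1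
  z1 : z ≠ 1
  a1 : a ≠ 1
  za : z ≠ a
  comm : z * a = a * z
  list : ∀ w ∈ W, w = 1 ∨ w = z ∨ w = a ∨ w = z * a

/-- No elementary abelian subgroup of order eight, in terms of elements. -/
theorem eight_absurd (hr : Cfsg.PRankLE 2 2 S) {x y z : S} (hx : x * x = 1) (hy : y * y = 1) (hz : z * z = 1)
    (hxy : x * y = y * x) (hxz : x * z = z * x) (hyz : y * z = z * y) (hz1 : z ≠ 1) (hy1 : y ≠ 1) (hyz1 : y ≠ z)
    (hx1 : x ≠ 1) (hxz1 : x ≠ z) (hxy1 : x ≠ y) (hxyz : x ≠ y * z) : False := by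
  classical
  let H : Subgroup S := closure {x, y, z}
  have hc : ∀ a ∈ ({x, y, z} : Set S), ∀ b ∈ ({x, y, z} : Set S), a * b = b * a := by
    rintro a (rfl | rfl | rfl) b (rfl | rfl | rfl) <;> first
      | rfl
      | assumption
      | exact hxy.symm
      | exact hxz.symm
      | exact hyz.symm
  have hcH : IsMulCommutative H := ⟨⟨(closureCommGroupOfComm hc).mul_comm⟩⟩
  have hH2 : ∀ a ∈ H, a ^ 2 = 1 := by
    intro a ha
    induction ha using closure_induction with
    | mem a ha => rcases ha with rfl | rfl | rfl <;> rwa [pow_two]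
    | one => exact one_pow 2
    | mul a b ha' hb' iha ihb =>
      rw [Commute.mul_pow (show Commute a b from congrArg Subtype.val (hcH.is_comm.comm ⟨a, ha'⟩ ⟨b, hb'⟩)),
        iha, ihb, one_mul]
    | inv a _ iha => rw [inv_pow, iha, inv_one]
  have hcard := hr H hcH hH2
  let s : Finset S := {1, z, y, y * z, x}
  have hs : s.card = 5 := by
    have hyz' : y * z ≠ 1 := fun e => hyz1 (by rw [eq_inv_of_mul_eq_one_left e, inv_eq_of_mul_eq_one_left hz])
    simp only [s]
    rw [Finset.card_insert_of_notMem, Finset.card_insert_of_notMem, Finset.card_insert_of_notMem,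
      Finset.card_insert_of_notMem, Finset.card_singleton] <;>
      simp only [Finset.mem_insert, Finset.mem_singleton, not_or]
    · exact Ne.symm hxyz
    · exact ⟨fun e => hz1 (mul_eq_left.mp e.symm), Ne.symm hxy1⟩
    · exact ⟨Ne.symm hyz1, fun e => hy1 (mul_eq_right.mp e.symm), Ne.symm hxz1⟩
    · exact ⟨Ne.symm hz1, Ne.symm hy1, Ne.symm hyz', Ne.symm hx1⟩
  have hsub : (s : Set S) ⊆ H := by
    have m : x ∈ H ∧ y ∈ H ∧ z ∈ H := ⟨subset_closure (by simp), subset_closure (by simp), subset_closure (by simp)⟩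
    intro w hw
    simp only [s, Finset.coe_insert, Finset.coe_singleton, Set.mem_insert_iff, Set.mem_singleton_iff] at hw
    rcases hw with rfl | rfl | rfl | rfl | rfl
    exacts [H.one_mem, m.2.2, m.2.1, H.mul_mem m.2.1 m.2.2, m.1]
  have h5 : 5 ≤ Nat.card H := by
    rw [← hs, ← Set.ncard_coe_finset, ← SetLike.coe_sort_coe, Nat.card_coe_set_eq]
    exact Set.ncard_le_ncard hsub (Set.toFinite _)
  omega

/-- The subgroup of a pair of commuting involutions. -/
def fourOf (z a : S) (hz : z * z = 1) (ha : a * a = 1) (hc : z * a = a * z) : Subgroup S where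
  carrier := {w | w = 1 ∨ w = z ∨ w = a ∨ w = z * a}
  one_mem' := Or.inl rfl
  mul_mem' := by
    have e1 : z * (z * a) = a := by rw [← mul_assoc, hz, one_mul]
    have e2 : a * (z * a) = z := by rw [hc, ← mul_assoc, ha, one_mul]
    have e3 : z * a * z = a := by rw [hc, mul_assoc, hz, mul_one]
    have e4 : z * a * a = z := by rw [mul_assoc, ha, mul_one]
    have e5 : z * a * (z * a) = 1 := by rw [← mul_assoc, e3, ha]
    rintro u v (rfl | rfl | rfl | rfl) (rfl | rfl | rfl | rfl) <;>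
      simp only [one_mul, mul_one, Set.mem_setOf_eq, hz, ha, ← hc, e1, e2, e3, e4, e5] <;> simp
  inv_mem' := by
    rintro u (rfl | rfl | rfl | rfl)
    · exact Or.inl inv_one
    · exact Or.inr (Or.inl (inv_eq_of_mul_eq_one_left hz))
    · exact Or.inr (Or.inr (Or.inl (inv_eq_of_mul_eq_one_left ha)))
    · refine Or.inr (Or.inr (Or.inr ?_))
      rw [mul_inv_rev, inv_eq_of_mul_eq_one_left hz, inv_eq_of_mul_eq_one_left ha, hc]

theorem isFour_fourOf (z a : S) (hz : z * z = 1) (ha : a * a = 1) (hc : z * a = a * z) (hz1 : z ≠ 1) (ha1 : a ≠ 1)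
    (hza : z ≠ a) : IsFour (fourOf z a hz ha hc) z a :=
  ⟨Or.inr (Or.inl rfl), Or.inr (Or.inr (Or.inl rfl)), hz, ha, hz1, ha1, hza, hc, fun _ hw => hw⟩

/-- A normal four-subgroup. -/
theorem exists_normal_four (hS : IsPGroup 2 S) (hr : Cfsg.PRankLE 2 2 S) (h1 : ¬ Cfsg.PRankLE 2 1 S)
    (hC : ∀ x : S, orderOf x = 2 → Nat.card ↥(centralizer ({x} : Set S)) ≠ 4) :
    ∃ (W : Subgroup S) (z a : S), W.Normal ∧ IsFour W z a ∧ ∀ g : S, g * z = z * g := by
  classical
  haveI : Fact (Nat.Prime 2) := ⟨Nat.prime_two⟩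
  haveI : Group.IsNilpotent S := hS.isNilpotent
  obtain ⟨E, hE, hE2, hEc⟩ : ∃ E : Subgroup S, IsMulCommutative E ∧ (∀ e ∈ E, e ^ 2 = 1) ∧ 2 < Nat.card E := by
    simp only [Cfsg.PRankLE, not_forall, not_le] at h1
    obtain ⟨E, hE, hE2, hc⟩ := h1
    exact ⟨E, hE, hE2, by simpa using hc⟩
  haveI : Nontrivial S := Finite.one_lt_card_iff_nontrivial.mp (by
    have := Subgroup.card_le_card_group E; omega)
  haveI := hS.center_nontrivial
  obtain ⟨z, hz⟩ := exists_prime_orderOf_dvd_card' (G := center S) 2 (by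
    obtain ⟨k, hk⟩ := (hS.to_subgroup (center S)).exists_card_eq
    rw [hk]
    refine dvd_pow_self 2 fun h => ?_
    have := Finite.one_lt_card (α := center S)
    rw [hk, h, pow_zero] at this
    omega)
  have hz2 : (z : S) * z = 1 := by
    rw [← pow_two, ← hz, ← Subgroup.orderOf_coe, pow_orderOf_eq_one]
  have hz1 : (z : S) ≠ 1 := fun e => by
    rw [show z = 1 from Subtype.ext e, orderOf_one] at hz
    omega
  have hzc : ∀ g : S, g * z = z * g := fun g => mem_center_iff.mp z.2 g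
  have hzfix : ∀ g : S, g * (z : S) * g⁻¹ = z := fun g => mul_inv_eq_iff_eq_mul.mpr (hzc g)
  -- it suffices to find a normal four-subgroup
  suffices ∃ b : S, b * b = 1 ∧ b ≠ 1 ∧ b ≠ z ∧ ∀ g : S, g * b * g⁻¹ = b ∨ g * b * g⁻¹ = z * b by
    obtain ⟨b, hb2, hb1, hbz, hconj⟩ := this
    have hbc : (z : S) * b = b * z := (hzc b).symm
    refine ⟨fourOf _ b hz2 hb2 hbc, z, b, ⟨fun w hw g => ?_⟩, isFour_fourOf _ b hz2 hb2 hbc hz1 hb1 hbz.symm, hzc⟩
    rcases hw with rfl | rfl | rfl | rfl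
    · exact Or.inl (by group)
    · exact Or.inr (Or.inl (hzfix g))
    · rcases hconj g with e | e
      · exact Or.inr (Or.inr (Or.inl e))
      · exact Or.inr (Or.inr (Or.inr e))
    · have e0 : g * ((z : S) * b) * g⁻¹ = z * (g * b * g⁻¹) := by
        rw [show g * ((z : S) * b) * g⁻¹ = (g * z * g⁻¹) * (g * b * g⁻¹) by group, hzfix]
      rcases hconj g with e | e
      · exact Or.inr (Or.inr (Or.inr (by rw [e0, e])))
      · exact Or.inr (Or.inr (Or.inl (by rw [e0, e, ← mul_assoc, hz2, one_mul])))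
  -- an involution other than `z`
  obtain ⟨x, hxE, hx1, hxz⟩ : ∃ x ∈ E, x ≠ 1 ∧ x ≠ z := by
    by_contra hc
    push Not at hc
    have : Nat.card E ≤ Nat.card Bool := Nat.card_le_card_of_injective (fun e => decide ((e : S) = 1)) fun e f hef => by
      simp only [decide_eq_decide] at hef
      refine Subtype.ext ?_
      rcases eq_or_ne (e : S) 1 with h | h
      · rw [h, hef.mp h]
      · rw [hc e e.2 h, hc f f.2 fun hf => h (hef.mpr hf)]
    rw [Nat.card_eq_fintype_card (α := Bool), Fintype.card_bool] at this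
    omega
  have hx2 : x * x = 1 := by rw [← pow_two, hE2 x hxE]
  obtain ⟨M, hMn, hMc, hCM⟩ := CfsgLib.UniqueSubgroup.exists_self_centralizing S
  haveI := hMn
  have hzM : (z : S) ∈ M := hCM fun u _ => hzc u
  by_cases hu : ∃ u ∈ M, u * u = 1 ∧ u ≠ 1 ∧ u ≠ z
  · obtain ⟨u, huM, hu2, hu1, huz⟩ := hu
    refine ⟨u, hu2, hu1, huz, fun g => ?_⟩
    by_contra hcon
    push Not at hcon
    have hd2 : g * u * g⁻¹ * (g * u * g⁻¹) = 1 := by
      rw [show g * u * g⁻¹ * (g * u * g⁻¹) = g * (u * u) * g⁻¹ by group, hu2]; group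
    refine eight_absurd hr hd2 hu2 hz2 (hMc _ (hMn.conj_mem u huM g) _ huM) (hzc _) (hzc _) hz1 hu1 huz
      (fun e => hu1 (conj_eq_one_iff.mp e)) (fun e => huz ?_) hcon.1 (fun e => hcon.2 (e.trans (hzc u)))
    calc u = g⁻¹ * (g * u * g⁻¹) * g := by group
      _ = g⁻¹ * (g * z * g⁻¹) * g := by rw [e, hzfix]
      _ = z := by group
  push Not at hu
  -- so `M` is cyclic
  obtain ⟨m', -, hm'⟩ := CfsgLib.UniqueSubgroup.exists_generator (hS.to_subgroup M) (z := (⟨z, hzM⟩ : M))
    (orderOf_eq_prime (Subtype.ext (by simpa [pow_two] using hz2)) fun e => hz1 (congrArg Subtype.val e))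
    (fun w hw => by
      rcases eq_or_ne (w : S) 1 with h | h
      · exact (show w = 1 from Subtype.ext h) ▸ one_mem _
      · exact (show w = ⟨z, hzM⟩ from Subtype.ext (hu w w.2 (by rw [← pow_two]; exact congrArg Subtype.val hw) h)) ▸
          mem_zpowers _)
    ⊤ (fun u _ v _ => Subtype.ext (hMc u u.2 v v.2))
  set m : S := (m' : S) with hm
  have hMz : ∀ w ∈ M, ∃ i : ℤ, m ^ i = w := fun w hw => by
    obtain ⟨i, hi⟩ : (⟨w, hw⟩ : M) ∈ zpowers m' := hm' ▸ mem_top _
    exact ⟨i, congrArg Subtype.val hi⟩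
  have hmM : m ∈ M := m'.2
  have inM : ∀ g : S, g * m * g⁻¹ = m → g ∈ M := fun g hg => hCM fun w hw => by
    obtain ⟨i, rfl⟩ := hMz w hw
    exact ((show Commute g m from mul_inv_eq_iff_eq_mul.1 hg).zpow_right i).eq.symm
  have hinvol : ∀ w ∈ M, w * w = 1 → w = 1 ∨ w = z := fun w hw hw2 => by
    rcases eq_or_ne w 1 with h | h
    · exact Or.inl h
    · exact Or.inr (hu w hw hw2 h)
  have hxM : x ∉ M := fun h => hxz (hu x h hx2 hx1)
  have hxz' : x * z = z * x := hzc x
  -- the centralizer of `x`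
  set C := centralizer ({x} : Set S) with hCdef
  have hxC : x ∈ C := mem_centralizer_singleton_iff.mpr rfl
  have hzC : (z : S) ∈ C := mem_centralizer_singleton_iff.mpr hxz'.symm
  let F := fourOf (z : S) x hz2 hx2 hxz'.symm
  have hFC : F ≤ C := by
    rintro w (rfl | rfl | rfl | rfl)
    exacts [one_mem _, hzC, hxC, mul_mem hzC hxC]
  have hFcard : Nat.card F = 4 := by
    have hF := isFour_fourOf (z : S) x hz2 hx2 hxz'.symm hz1 hx1 hxz.symm
    refine le_antisymm (hr F ⟨⟨fun u v => ?_⟩⟩ fun w hw => ?_) ?_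
    · refine Subtype.ext (show (u : S) * v = v * u from ?_)
      have hzx : Commute (z : S) x := hxz'.symm
      have hcom : ∀ w ∈ F, Commute w (z : S) ∧ Commute w x := by
        intro w hw
        rcases hF.list w hw with e | e | e | e <;> subst e
        exacts [⟨Commute.one_left _, Commute.one_left _⟩, ⟨Commute.refl _, hzx⟩, ⟨hzx.symm, Commute.refl _⟩,
          ⟨(Commute.refl _).mul_left hzx.symm, hzx.mul_left (Commute.refl _)⟩]
      obtain ⟨h1, h2⟩ := hcom u u.2
      rcases hF.list v v.2 with e | e | e | e <;> rw [e]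
      exacts [Commute.one_right _, h1, h2, h1.mul_right h2]
    · rcases hF.list w hw with e | e | e | e <;> subst e
      exacts [one_pow 2, by rw [pow_two, hz2], by rw [pow_two, hx2], by
        rw [(show Commute (z : S) x from hxz'.symm).mul_pow, pow_two, pow_two, hz2, hx2, one_mul]]
    · have hzx1 : (z : S) * x ≠ 1 := fun e => hxz (by
        rw [eq_inv_of_mul_eq_one_right e, inv_eq_of_mul_eq_one_left hz2])
      let s : Finset S := {1, (z : S), x, (z : S) * x}
      have hs : s.card = 4 := by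
        simp only [s]
        rw [Finset.card_insert_of_notMem, Finset.card_insert_of_notMem, Finset.card_insert_of_notMem,
          Finset.card_singleton] <;> simp only [Finset.mem_insert, Finset.mem_singleton, not_or]
        · exact fun e => hz1 (mul_eq_right.mp e.symm)
        · exact ⟨Ne.symm hxz, fun e => hx1 (mul_eq_left.mp e.symm)⟩
        · exact ⟨Ne.symm hz1, Ne.symm hx1, Ne.symm hzx1⟩
      have hsub : (s : Set S) ⊆ F := by
        intro w hw
        simpa [s, F, fourOf] using hw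
      rw [← hs, ← Set.ncard_coe_finset, ← SetLike.coe_sort_coe, Nat.card_coe_set_eq]
      exact Set.ncard_le_ncard hsub (Set.toFinite _)
  obtain ⟨k, hk⟩ := (hS.to_subgroup C).exists_card_eq
  have hC8 : Nat.card F < Nat.card C := by
    refine lt_of_le_of_ne (card_le_of_le hFC) ?_
    rw [hFcard]
    exact (hC x (orderOf_eq_prime (by rw [pow_two, hx2]) hx1)).symm
  obtain ⟨n, hn⟩ := IsPGroup.iff_orderOf.1 hS m
  have conv : ∀ c : ℤ, (2 : ℤ) ^ n ∣ c → m ^ c = 1 := fun c hc =>
    orderOf_dvd_iff_zpow_eq_one.1 (by rw [hn]; exact_mod_cast hc)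
  -- the action on the square of `m`
  have hcases : ∀ e : S, e * e ∈ M → e * m ^ 2 * e⁻¹ = m ^ 2 ∨ e * m ^ 2 * e⁻¹ = (m ^ 2)⁻¹ := by
    intro e hee
    obtain ⟨k, hk⟩ := hMz _ (hMn.conj_mem m hmM e)
    have hk2 : m ^ (k ^ 2 - 1) = 1 := by
      have h1 : e * (e * m * e⁻¹) * e⁻¹ = m := by
        calc e * (e * m * e⁻¹) * e⁻¹ = (e * e) * m * (e * e)⁻¹ := by group
          _ = m := by rw [hMc _ hee _ hmM, mul_inv_cancel_right]
      rw [← hk, ← conj_zpow, ← hk, ← zpow_mul] at h1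
      rw [zpow_sub, zpow_one, pow_two, h1, mul_inv_cancel]
    have hdvd : (2 : ℤ) ^ n ∣ k ^ 2 - 1 := by
      have := orderOf_dvd_iff_zpow_eq_one.2 hk2
      rw [hn] at this
      exact_mod_cast this
    have he2 : e * m ^ 2 * e⁻¹ = m ^ (2 * k) := by
      rw [← conj_pow, ← hk, ← zpow_natCast, ← zpow_mul, mul_comm]; rfl
    rcases CfsgLib.Connectivity.exponent_cases hdvd with h | h
    · left
      rw [he2, show 2 * k = (2 * k - 2) + 2 by ring, zpow_add, conv _ h, one_mul]; exact zpow_natCast m 2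
    · right
      rw [he2, show 2 * k = (2 * k + 2) + (-2) by ring, zpow_add, conv _ h, one_mul, zpow_neg]
      exact congrArg _ (zpow_natCast m 2)
  by_cases hn3 : n ≤ 2
  · -- the small case: `x` is central
    have h4 : m ^ 4 = 1 := orderOf_dvd_iff_pow_eq_one.mp (by rw [hn, show (4 : ℕ) = 2 ^ 2 from rfl]; exact pow_dvd_pow 2 hn3)
    have hM4 : Nat.card M ≤ 4 := by
      rw [← Subgroup.card_top (G := M), hm', Nat.card_zpowers, ← Subgroup.orderOf_coe, ← hm]
      exact Nat.le_of_dvd (by norm_num) (orderOf_dvd_of_pow_eq_one h4)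
    have hflip : ∀ e : S, e ∉ M → e * m * e⁻¹ = m⁻¹ := by
      intro e he
      obtain ⟨i, hi⟩ := hMz _ (hMn.conj_mem m hmM e)
      have hne : e * m * e⁻¹ ≠ m := fun h => he (inM e h)
      have h4' : m ^ (4 : ℤ) = 1 := by exact_mod_cast h4
      have hi4 : m ^ i = m ^ (i % 4) := by
        conv_lhs => rw [← Int.emod_add_mul_ediv i 4, zpow_add, zpow_mul, h4', one_zpow, mul_one]
      rw [← hi, hi4] at hne ⊢
      have hsq : m ^ (i % 4 * 2) = 1 → m ^ 2 = 1 := fun h => by
        have e1 : (e * m * e⁻¹) ^ 2 = 1 := by rw [← hi, hi4, ← zpow_natCast, ← zpow_mul]; exact h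
        rw [conj_pow] at e1
        exact conj_eq_one_iff.mp e1
      have : i % 4 = 0 ∨ i % 4 = 1 ∨ i % 4 = 2 ∨ i % 4 = 3 := by omega
      rcases this with h | h | h | h <;> rw [h] at hne hsq ⊢
      · exfalso
        have e1 : e * m * e⁻¹ = 1 := by rw [← hi, hi4, h, zpow_zero]
        exact hne (by rw [conj_eq_one_iff.mp e1, zpow_zero])
      · exact absurd (zpow_one m) hne
      · have h22 : m ^ 2 = 1 := hsq (by exact_mod_cast h4)
        exfalso
        have e1 : e * m * e⁻¹ = 1 := by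
          rw [← hi, hi4, h]; exact_mod_cast h22
        exact hne (by rw [conj_eq_one_iff.mp e1, one_zpow])
      · rw [eq_inv_iff_mul_eq_one, ← zpow_add_one]
        exact_mod_cast h4
    have hS8 : Nat.card S ≤ 8 := by
      let f : S → Bool × M := fun g => if hg : g ∈ M then (false, ⟨g, hg⟩) else (true, ⟨x * g, inM _ (by
        calc x * g * m * (x * g)⁻¹ = x * (g * m * g⁻¹) * x⁻¹ := by group
          _ = (x * m * x⁻¹)⁻¹ := by rw [hflip g hg]; group
          _ = m := by rw [hflip x hxM, inv_inv])⟩)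
      have hf : Function.Injective f := fun a b hab => by
        by_cases ha : a ∈ M <;> by_cases hb : b ∈ M <;> simp [f, ha, hb] at hab
        · exact hab
        · exact hab
      refine (Nat.card_le_card_of_injective f hf).trans ?_
      rw [Nat.card_prod, Nat.card_eq_fintype_card (α := Bool), Fintype.card_bool]
      omega
    have hCtop : C = ⊤ := eq_top_of_le_card _ (by
      rw [hFcard] at hC8
      rw [hk] at hC8
      rw [hk]
      have : 3 ≤ k := (Nat.pow_lt_pow_iff_right (by norm_num)).1 (show 2 ^ 2 < 2 ^ k from hC8)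
      exact hS8.trans (Nat.pow_le_pow_right (show 0 < 2 by norm_num) this))
    refine ⟨x, hx2, hx1, hxz, fun g => Or.inl ?_⟩
    exact mul_inv_eq_iff_eq_mul.mpr (mem_centralizer_singleton_iff.mp (hCtop.symm.le (mem_top g)))
  push Not at hn3
  have hm4 : m ^ 4 ≠ 1 := fun h => by
    have := Nat.le_of_dvd (by norm_num) (hn ▸ orderOf_dvd_of_pow_eq_one h)
    have : 2 ^ 3 ≤ 2 ^ n := Nat.pow_le_pow_right (by norm_num) hn3
    omega
  have hodd : ∀ j : ℤ, m ^ (4 * (2 * j + 1)) ≠ 1 := fun j h4 => by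
    have h5 : (2 : ℤ) ^ n ∣ 4 * (2 * j + 1) := by
      have := orderOf_dvd_iff_zpow_eq_one.2 h4
      rw [hn] at this; exact_mod_cast this
    have h6 : (2 : ℤ) ^ n ∣ 4 := IsCoprime.dvd_of_dvd_mul_right (IsCoprime.pow_left ⟨-j, 1, by ring⟩) h5
    refine hm4 (orderOf_dvd_iff_pow_eq_one.1 ?_)
    rw [hn]; exact_mod_cast h6
  -- an involution outside `M` commuting with the square of `m`
  obtain ⟨b, hb2, hbM, hbm2⟩ : ∃ b : S, b * b = 1 ∧ b ∉ M ∧ b * m ^ 2 * b⁻¹ = m ^ 2 := by
    rcases hcases x (by rw [hx2]; exact one_mem _) with hxc | hxi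
    · exact ⟨x, hx2, hxM, hxc⟩
    have hCM' : ∀ u ∈ C, u ∈ M → u = 1 ∨ u = z := by
      intro u huC huM
      refine hinvol u huM ?_
      obtain ⟨i, rfl⟩ := hMz u huM
      have hfix : x * m ^ i * x⁻¹ = m ^ i := mul_inv_eq_iff_eq_mul.mpr (mem_centralizer_singleton_iff.mp huC).symm
      have hfix2 : x * (m ^ i) ^ 2 * x⁻¹ = (m ^ i) ^ 2 := by rw [← conj_pow, hfix]
      have hinv2 : x * (m ^ i) ^ 2 * x⁻¹ = ((m ^ i) ^ 2)⁻¹ := by
        have e : (m ^ i) ^ 2 = (m ^ 2) ^ i := by
          rw [← zpow_natCast, ← zpow_natCast, ← zpow_mul, ← zpow_mul, mul_comm]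
        rw [e, ← conj_zpow, hxi, inv_zpow]
      have h4i : m ^ (4 * i) = 1 := by
        have e := hfix2.symm.trans hinv2
        rw [eq_inv_iff_mul_eq_one, ← zpow_natCast, ← zpow_mul, ← zpow_add] at e
        rw [show 4 * i = i * ((2 : ℕ) : ℤ) + i * ((2 : ℕ) : ℤ) by push_cast; ring]
        exact e
      rcases Int.even_or_odd i with ⟨j, rfl⟩ | ⟨j, rfl⟩
      · -- `u = (m ^ 2) ^ j` is fixed and inverted
        have e : x * m ^ (j + j) * x⁻¹ = (m ^ (j + j))⁻¹ := by
          have e' : m ^ (j + j) = (m ^ 2) ^ j := by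
            rw [← zpow_natCast, ← zpow_mul]; congr 1; push_cast; ring
          rw [e', ← conj_zpow, hxi, inv_zpow]
        exact eq_inv_iff_mul_eq_one.mp (hfix.symm.trans e)
      · exact absurd h4i (hodd j)
    -- an element of `C` outside the four-group with square inside it
    obtain ⟨y, hyC, hyF, hy2⟩ : ∃ y ∈ C, y ∉ F ∧ y * y ∈ F := by
      obtain ⟨y, hyC, hyF⟩ := SetLike.exists_of_lt (lt_of_le_of_ne hFC fun e => hC8.ne (by rw [e]))
      obtain ⟨j, hj⟩ := hS y
      have hex : ∃ j, y ^ 2 ^ j ∈ F := ⟨j, by rw [hj]; exact one_mem _⟩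
      have hne : Nat.find hex ≠ 0 := fun h => hyF (by
        have h' := Nat.find_spec hex
        rwa [h, pow_zero, pow_one] at h')
      obtain ⟨i, hi⟩ := Nat.exists_eq_succ_of_ne_zero hne
      refine ⟨y ^ 2 ^ i, pow_mem hyC _, Nat.find_min hex (by omega), ?_⟩
      have h' := Nat.find_spec hex
      rw [hi, pow_succ, pow_mul, pow_two] at h'
      exact h'
    have hyx : y * x = x * y := mem_centralizer_singleton_iff.mp hyC
    have hy2z : y * y = 1 ∨ y * y = z := by
      rcases hy2 with h | h | h | h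
      · exact Or.inl h
      · exact Or.inr h
      all_goals exfalso
      all_goals
        have hq : y * y * m ^ 2 * (y * y)⁻¹ = (m ^ 2)⁻¹ := by
          rw [h]
          first
            | exact hxi
            | rw [show (z : S) * x * m ^ 2 * ((z : S) * x)⁻¹ = z * (x * m ^ 2 * x⁻¹) * (z : S)⁻¹ by group, hxi,
                ← hzc, mul_inv_cancel_right]
        obtain ⟨k, hk⟩ := hMz _ (hMn.conj_mem m hmM y)
        have hk2 : m ^ (2 * k * k + 2) = 1 := by
          have e : y * (y * m * y⁻¹) * y⁻¹ = m ^ (k * k) := by rw [← hk, ← conj_zpow, ← hk, ← zpow_mul]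
          have e2 : y * y * m ^ 2 * (y * y)⁻¹ = m ^ (2 * k * k) := by
            rw [show y * y * m ^ 2 * (y * y)⁻¹ = (y * (y * m * y⁻¹) * y⁻¹) ^ 2 by
              rw [pow_two, pow_two]; group, e, ← zpow_natCast, ← zpow_mul]
            congr 1; push_cast; ring
          rw [hq] at e2
          rw [zpow_add, ← e2, show (2 : ℤ) = ((2 : ℕ) : ℤ) from rfl, zpow_natCast, inv_mul_cancel]
        have h8 : (8 : ℤ) ∣ 2 * k * k + 2 := by
          have := orderOf_dvd_iff_zpow_eq_one.2 hk2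
          rw [hn] at this
          refine dvd_trans ?_ this
          exact_mod_cast (show 2 ^ 3 ∣ 2 ^ n from pow_dvd_pow 2 hn3)
        obtain ⟨c, hc⟩ := h8
        rcases Int.even_or_odd k with ⟨j, rfl⟩ | ⟨j, rfl⟩
        · have : 2 * (j + j) * (j + j) + 2 = 8 * (j * j) + 2 := by ring
          omega
        · have : 2 * (2 * j + 1) * (2 * j + 1) + 2 = 8 * (j * j + j) + 4 := by ring
          omega
    obtain ⟨y', hy'C, hy'F, hy'2, hy'm⟩ : ∃ y' ∈ C, y' ∉ F ∧ y' * y' = y * y ∧ y' * m ^ 2 * y'⁻¹ = m ^ 2 := by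
      rcases hcases y (by rcases hy2z with h | h <;> rw [h]; exacts [one_mem _, hzM]) with h | h
      · exact ⟨y, hyC, hyF, rfl, h⟩
      · refine ⟨x * y, mul_mem hxC hyC, fun e => hyF ?_, ?_, ?_⟩
        · have := F.mul_mem (show x ∈ F from Or.inr (Or.inr (Or.inl rfl))) e
          rwa [← mul_assoc, hx2, one_mul] at this
        · calc x * y * (x * y) = x * (y * x) * y := by group
            _ = x * x * (y * y) := by rw [hyx]; group
            _ = y * y := by rw [hx2, one_mul]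
        · calc x * y * m ^ 2 * (x * y)⁻¹ = x * (y * m ^ 2 * y⁻¹) * x⁻¹ := by group
            _ = (x * m ^ 2 * x⁻¹)⁻¹ := by rw [h]; group
            _ = m ^ 2 := by rw [hxi, inv_inv]
    rcases hy2z with h | h
    · exfalso
      rw [h] at hy'2
      refine eight_absurd hr hy'2 hx2 hz2 (mem_centralizer_singleton_iff.mp hy'C) (hzc y') (hzc x) hz1 hx1 hxz
        (fun e => hy'F (e ▸ Or.inl rfl)) (fun e => hy'F (e ▸ Or.inr (Or.inl rfl)))
        (fun e => hy'F (e ▸ Or.inr (Or.inr (Or.inl rfl)))) (fun e => hy'F ?_)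
      rw [e, hxz']
      exact Or.inr (Or.inr (Or.inr rfl))
    · rw [h] at hy'2
      -- `m ^ (2 ^ (n - 2))` squares to `z`
      obtain ⟨r, hr'⟩ : ∃ r, n = r + 3 := ⟨n - 3, by omega⟩
      set w := (m ^ 2) ^ 2 ^ r with hw
      have hwM : w ∈ M := pow_mem (pow_mem hmM 2) _
      have hww : w * w = z := by
        refine hu (w * w) (M.mul_mem hwM hwM) ?_ ?_
        · rw [hw, ← pow_add, ← pow_add, ← pow_mul]
          exact orderOf_dvd_iff_pow_eq_one.mp (dvd_of_eq (by rw [hn, hr', pow_add]; ring))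
        · rw [hw, ← pow_add, ← pow_mul]
          refine fun e => ?_
          have := Nat.le_of_dvd (by positivity) (hn ▸ orderOf_dvd_of_pow_eq_one e)
          rw [hr', pow_add] at this
          have := Nat.one_le_two_pow (n := r)
          omega
      have hyw : y' * w = w * y' := by
        have : Commute y' (m ^ 2) := mul_inv_eq_iff_eq_mul.1 hy'm
        exact (this.pow_right _).eq
      have hy'M : y' ∉ M := fun hy => by
        rcases hCM' y' hy'C hy with e | e <;> exact hy'F (e ▸ by first | exact Or.inl rfl | exact Or.inr (Or.inl rfl))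
      refine ⟨y' * w, ?_, fun e => hy'M ((M.mul_mem_cancel_right hwM).mp e), ?_⟩
      · calc y' * w * (y' * w) = y' * (w * y') * w := by group
          _ = y' * y' * (w * w) := by rw [← hyw]; group
          _ = 1 := by rw [hy'2, hww, hz2]
      · calc y' * w * m ^ 2 * (y' * w)⁻¹ = y' * (w * m ^ 2 * w⁻¹) * y'⁻¹ := by group
          _ = m ^ 2 := by rw [hMc w hwM _ (pow_mem hmM 2), mul_inv_cancel_right, hy'm]
  have hb1 : b ≠ 1 := fun e => hbM (e ▸ one_mem _)
  refine ⟨b, hb2, hb1, fun e => hbM (e ▸ hzM), fun g => ?_⟩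
  set d := g * b * g⁻¹ with hd
  have hd2 : d * d = 1 := by rw [hd, show g * b * g⁻¹ * (g * b * g⁻¹) = g * (b * b) * g⁻¹ by group, hb2]; group
  have hdM : d ∉ M := fun h => hbM (by
    have := hMn.conj_mem d h g⁻¹
    rwa [hd, show g⁻¹ * (g * b * g⁻¹) * g⁻¹⁻¹ = b by group] at this)
  have hdm2 : d * m ^ 2 * d⁻¹ = m ^ 2 := by
    obtain ⟨i, hi⟩ := hMz _ (hMn.conj_mem m hmM g⁻¹)
    have hi' : g⁻¹ * m ^ 2 * g⁻¹⁻¹ = (m ^ 2) ^ i := by
      rw [← conj_pow, ← hi, ← zpow_natCast, ← zpow_natCast, ← zpow_mul, ← zpow_mul, mul_comm]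
    have hb2i : b * (m ^ 2) ^ i * b⁻¹ = (m ^ 2) ^ i := by rw [← conj_zpow, hbm2]
    calc d * m ^ 2 * d⁻¹ = g * (b * (g⁻¹ * m ^ 2 * g⁻¹⁻¹) * b⁻¹) * g⁻¹ := by rw [hd]; group
      _ = g * (g⁻¹ * m ^ 2 * g⁻¹⁻¹) * g⁻¹ := by rw [hi', hb2i]
      _ = m ^ 2 := by group
  have hdef : ∀ e : S, e ∉ M → e * m ^ 2 * e⁻¹ = m ^ 2 → e * m * e⁻¹ = m * z := by
    intro e he he2
    have hcm := hMn.conj_mem m hmM e
    have hs : m⁻¹ * (e * m * e⁻¹) = z := by
      refine hu _ (M.mul_mem (M.inv_mem hmM) hcm) ?_ fun h => he (inM e (inv_mul_eq_one.1 h).symm)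
      rw [← pow_two, (show Commute m⁻¹ (e * m * e⁻¹) from hMc _ (M.inv_mem hmM) _ hcm).mul_pow, conj_pow, he2,
        inv_pow, inv_mul_cancel]
    rw [← hs, mul_inv_cancel_left]
  obtain ⟨i, hi⟩ := hMz (d * b) (inM _ (by
    calc d * b * m * (d * b)⁻¹ = d * (b * m * b⁻¹) * d⁻¹ := by group
      _ = (d * m * d⁻¹) * (d * z * d⁻¹) := by rw [hdef b hbM hbm2]; group
      _ = m * (z * z) := by rw [hdef d hdM hdm2, hzfix, mul_assoc]
      _ = m := by rw [hz2, mul_one]))
  have hdeq : d = m ^ i * b := by rw [hi, mul_assoc, hb2, mul_one]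
  have hbi : b * m ^ i * b⁻¹ = m ^ i * (z : S) ^ i := by
    rw [← conj_zpow, hdef b hbM hbm2, (show Commute m (z : S) from (hzc m)).mul_zpow]
  have h1 : m ^ i * (m ^ i * (z : S) ^ i) = 1 := by
    rw [← hbi, ← hd2, hdeq, inv_eq_of_mul_eq_one_right hb2]; simp only [mul_assoc]
  have hzi : (z : S) ^ i = 1 := by
    rcases Int.even_or_odd i with ⟨j, hj⟩ | ⟨j, hj⟩
    · rw [hj, ← two_mul, zpow_mul, zpow_two, hz2, one_zpow]
    · exfalso
      refine hodd j ?_
      have e1 : m ^ i * m ^ i = ((z : S) ^ i)⁻¹ := eq_inv_of_mul_eq_one_left (by rwa [mul_assoc])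
      rw [← hj, show 4 * i = (i + i) * 2 by ring, zpow_mul, zpow_add, e1, inv_zpow, ← zpow_mul, mul_comm i 2,
        zpow_mul, zpow_two, hz2, one_zpow, inv_one]
  rw [hzi, mul_one] at h1
  rcases hinvol (m ^ i) (zpow_mem hmM i) h1 with e | e
  · exact Or.inl (by rw [hdeq, e, one_mul])
  · exact Or.inr (by rw [hdeq, e])

end CfsgLib.RankTwoSylow
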