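import Cfsg.Agent.Lib.RankTwoSylow.NormalFour
import Cfsg.Agent.Lib.SuzukiTwo.RankTwo
import Cfsg.Agent.Lib.SuzukiTwo.RankTwoAbelian
import Cfsg.Agent.S3224
import Mathlib.GroupTheory.SpecificGroups.Dihedral

/-!
Two-groups of rank two with a subgroup of index two whose three involutions are permuted transitively.
-/

set_option autoImplicit false
set_option linter.unusedSectionVars false

namespace CfsgLib.RankTwoSylow

open Subgroup
open scoped commutatorElement

universe u
variable {S : Type u} [Group S] [Finite S]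

/-- Dihedral of order at least four, semidihedral or wreathed. -/
def Shape (S : Type u) [Group S] : Prop :=
  (∃ m : ℕ, 2 ≤ m ∧ Nonempty (S ≃* DihedralGroup m)) ∨ Cfsg.IsQuasiDihedral S ∨ Cfsg.IsWreathed S

/-- The case of an involution with centralizer of order four. -/
theorem shape_of_card_four (hS : IsPGroup 2 S) (h1 : ¬ Cfsg.PRankLE 2 1 S) {x : S} (hx : orderOf x = 2)
    (hC : Nat.card ↥(centralizer ({x} : Set S)) = 4) : Shape S := by
  classical
  obtain ⟨E, hE, hE2, hEc⟩ : ∃ E : Subgroup S, IsMulCommutative E ∧ (∀ e ∈ E, e ^ 2 = 1) ∧ 2 < Nat.card E := by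
    simp only [Cfsg.PRankLE, not_forall, not_le] at h1
    obtain ⟨E, hE, hE2, hc⟩ := h1
    exact ⟨E, hE, hE2, by simpa using hc⟩
  haveI := hE
  have hS4 : 2 < Nat.card S := hEc.trans_le (card_le_card_group E)
  rcases Cfsg.Agent.S3224.result hS x hx hC with ⟨n, ⟨e⟩⟩ | hqd | h4
  · refine Or.inl ⟨n, ?_, ⟨e⟩⟩
    rw [Nat.card_congr e.toEquiv, DihedralGroup.nat_card] at hS4
    omega
  · exact Or.inr (Or.inl hqd)
  · refine Or.inl ⟨2, le_rfl, ?_⟩
    have hEtop : E = ⊤ := eq_top_of_le_card _ (by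
      obtain ⟨k, hk⟩ := (hS.to_subgroup E).exists_card_eq
      rw [hk] at hEc
      rw [h4, hk]
      rcases k with - | - | k
      · norm_num at hEc
      · norm_num at hEc
      · exact Nat.pow_le_pow_right (show 0 < 2 by norm_num) (show 2 ≤ k + 1 + 1 by omega))
    haveI : IsKleinFour S := ⟨h4, by
      refine (Nat.dvd_prime Nat.prime_two).mp (Monoid.exponent_dvd_of_forall_pow_eq_one fun g =>
        hE2 g (hEtop.symm.le (mem_top g))) |>.resolve_left fun h => ?_
      rw [Monoid.exp_eq_one_iff] at h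
      have := Finite.card_le_one_iff_subsingleton.mpr h
      omega⟩
    exact IsKleinFour.nonempty_mulEquiv

end CfsgLib.RankTwoSylow

namespace CfsgLib.SuzukiTwo

open Subgroup
open scoped commutatorElement

universe u
variable {W : Type u} [Group W] [Finite W]

/-- The square map is not constant on the nonzero vectors of a plane of `W` modulo its centre. -/
theorem Sixty.no_line (h : Sixty W) {v w z a : W} (hz : z ∈ center W) (ha : a ∈ center W) (hz1 : z ≠ 1)
    (ha1 : a ≠ 1) (hza : z ≠ a) (hv : v * v = z) (hw : w * w = z) (hvw : v * w * (v * w) = z) : False := by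
  have hz2 := h.cen z hz
  have ha2 := h.cen a ha
  have hsymm := h.comm_symm
  have hvZ : v ∉ center W := fun hh => hz1 (hv.symm.trans (h.cen v hh))
  have hwZ : w ∉ center W := fun hh => hz1 (hw.symm.trans (h.cen w hh))
  have hB : ⁅w, v⁆ = z := by
    have e := mul_mul_self_eq h.good v w
    rw [hvw, hv, hw, hz2, one_mul] at e
    exact e.symm
  obtain ⟨y, hyC, hy⟩ := h.exists_sqrt hvZ ha
  obtain ⟨t, htC, ht⟩ := h.exists_sqrt hwZ ha
  have hyZ : y ∉ center W := fun hh => ha1 (hy.symm.trans (h.cen y hh))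
  have htZ : t ∉ center W := fun hh => ha1 (ht.symm.trans (h.cen t hh))
  have hlist : ∀ u ∈ center W, u = 1 ∨ u = z ∨ u = a ∨ u = z * a :=
    klein_list h.card_center h.cen (fun u hu g => mem_center_iff.mp hu g) hz ha hz1 ha1 hza
  -- nondegeneracy between the two centralizers
  have hne : ∀ c ∈ centralizer ({v} : Set W), c ∉ center W → ∀ d ∈ centralizer ({w} : Set W), d ∉ center W →
      ⁅d, c⁆ ≠ 1 ∧ ⁅d, c⁆ ≠ c * c * (d * d) := by
    intro c hc hcZ d hd hdZ
    have key : d ∈ centralizer ({v} : Set W) → False := fun hdv => by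
      have e := (h.centralizer_eq hwZ hd hdZ).symm.trans (h.centralizer_eq hvZ hdv hdZ)
      have : w ∈ centralizer ({v} : Set W) := e ▸ mem_centralizer_singleton_iff.mpr rfl
      exact hz1 (hB.symm.trans (commutatorElement_eq_one_iff_mul_comm.mpr (mem_centralizer_singleton_iff.mp this)))
    refine ⟨fun e => key ?_, fun e => key ?_⟩
    · rw [← h.centralizer_eq hvZ hc hcZ]
      exact mem_centralizer_singleton_iff.mpr (commutatorElement_eq_one_iff_mul_comm.mp e)
    · have e2 := mul_mul_self_eq h.good c d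
      rw [e, h.cen _ (mul_mem (h.sq c) (h.sq d))] at e2
      have hcd : c * d ∈ center W := h.inv _ e2
      have := (centralizer ({v} : Set W)).mul_mem (inv_mem hc) (h.mem_centralizer v hcd)
      rwa [inv_mul_cancel_left] at this
  have hvC : v ∈ centralizer ({v} : Set W) := mem_centralizer_singleton_iff.mpr rfl
  have hwC : w ∈ centralizer ({w} : Set W) := mem_centralizer_singleton_iff.mpr rfl
  have hvyZ : v * y ∉ center W := fun hh => by
    have e := mul_mul_self_eq h.good v y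
    rw [h.cen _ hh, hv, hy, commutatorElement_eq_one_iff_mul_comm.mpr (mem_centralizer_singleton_iff.mp hyC),
      mul_one] at e
    exact hza (by rw [eq_inv_of_mul_eq_one_left e.symm, inv_eq_of_mul_eq_one_left ha2])
  have hwtsq : w * t * (w * t) = z * a := by
    rw [mul_mul_self_eq h.good, hw, ht, commutatorElement_eq_one_iff_mul_comm.mpr (mem_centralizer_singleton_iff.mp htC),
      mul_one]
  have hza1 : z * a ≠ 1 := fun e => hza (by rw [eq_inv_of_mul_eq_one_left e, inv_eq_of_mul_eq_one_left ha2])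
  have hwtZ : w * t ∉ center W := fun hh => hza1 (hwtsq.symm.trans (h.cen _ hh))
  have hwtC : w * t ∈ centralizer ({w} : Set W) := mul_mem hwC htC
  have hvyC : v * y ∈ centralizer ({v} : Set W) := mul_mem hvC hyC
  have hr : ∀ c d g : W, ⁅g, c * d⁆ = ⁅g, c⁆ * ⁅g, d⁆ := fun c d g => commutator_right_central (h.cc g d)
  have hl : ∀ c d g : W, ⁅c * d, g⁆ = ⁅d, g⁆ * ⁅c, g⁆ := fun c d g => commutator_left_central (h.cc d g)
  have hwy : ⁅w, y⁆ = a := by
    obtain ⟨n1, n2⟩ := hne y hyC hyZ w hwC hwZ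
    rw [hy, hw, ← mem_center_iff.mp ha z] at n2
    rcases hlist _ (h.cc w y) with e | e | e | e
    · exact absurd e n1
    · refine absurd ?_ (hne _ hvyC hvyZ w hwC hwZ).1
      rw [hr, hB, e, hz2]
    · exact e
    · exact absurd e n2
  have htv : ⁅t, v⁆ = a := by
    obtain ⟨n1, n2⟩ := hne v hvC hvZ t htC htZ
    rw [hv, ht] at n2
    rcases hlist _ (h.cc t v) with e | e | e | e
    · exact absurd e n1
    · refine absurd ?_ (hne _ hvC hvZ _ hwtC hwtZ).1
      rw [hl, hB, e, hz2]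
    · exact e
    · exact absurd e n2
  obtain ⟨n1, -⟩ := hne y hyC hyZ t htC htZ
  rcases hlist _ (h.cc t y) with e | e | e | e
  · exact n1 e
  · refine (hne _ hvyC hvyZ _ hwtC hwtZ).1 ?_
    rw [hl, hr, hr, htv, hwy, hB, e]
    calc a * z * (z * a) = a * (z * z) * a := by group
      _ = 1 := by rw [hz2, mul_one, ha2]
  · refine (hne _ hvyC hvyZ t htC htZ).1 ?_
    rw [hr, htv, e, ha2]
  · refine (hne y hyC hyZ _ hwtC hwtZ).2 ?_
    rw [hl, hwy, e, hy, hwtsq]
    exact mem_center_iff.mp ha (z * a)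

/-- No automorphism of square inner fixes one involution and interchanges the other two. -/
theorem Sixty.no_swap (h : Sixty W) (σ : MulAut W) {u z a : W} (hσ : ∀ v, σ (σ v) = u * v * u⁻¹)
    (hz : z ∈ center W) (ha : a ∈ center W) (hz1 : z ≠ 1) (ha1 : a ≠ 1) (hza : z ≠ a) (hσz : σ z = z)
    (hσa : σ a = z * a) : False := by
  classical
  haveI : (center W).Characteristic := inferInstance
  let V := W ⧸ center W
  have hV2 : ∀ q : V, q * q = 1 := fun q => by
    induction q using QuotientGroup.induction_on with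
    | H g => exact (QuotientGroup.eq_one_iff _).mpr (h.sq g)
  have hVc : ∀ p q : V, p * q = q * p := fun p q => by
    have hi : ∀ r : V, r⁻¹ = r := fun r => inv_eq_of_mul_eq_one_right (hV2 r)
    have e := hi (p * q)
    rwa [mul_inv_rev, hi, hi, eq_comm] at e
  let π := QuotientGroup.mk' (center W)
  have hle : center W ≤ (π.comp σ.toMonoidHom).ker := fun g hg => by
    rw [MonoidHom.mem_ker]
    exact (QuotientGroup.eq_one_iff _).mpr (mem_center_iff.mpr fun k => by
      have e := mem_center_iff.mp hg (σ.symm k)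
      have e2 := congrArg σ e
      simpa using e2)
  let σb : V →* V := QuotientGroup.lift (center W) (π.comp σ.toMonoidHom) hle
  have hσb : ∀ g : W, σb (π g) = π (σ g) := fun g => rfl
  have hσσ : ∀ q : V, σb (σb q) = q := fun q => by
    induction q using QuotientGroup.induction_on with
    | H g =>
      show π (σ (σ g)) = π g
      rw [hσ, map_mul, map_mul, map_inv, hVc (π u), mul_inv_cancel_right]
  let δ : V →* V := MonoidHom.mk' (fun q => q * σb q) fun p q => by
    rw [map_mul]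
    calc p * q * (σb p * σb q) = p * (q * σb p) * σb q := by group
      _ = _ := by rw [hVc q]; group
  have hrk : δ.range ≤ δ.ker := by
    rintro _ ⟨q, rfl⟩
    show q * σb q * σb (q * σb q) = 1
    rw [map_mul, hσσ, hVc (σb q) q, hV2]
  have hc := δ.ker.card_mul_index
  rw [Subgroup.index_ker] at hc
  have hV16 : Nat.card V = 16 := by
    have e := (center W).card_mul_index
    rw [h.card_center, h.card, Subgroup.index_eq_card] at e
    show Nat.card (W ⧸ center W) = 16
    omega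
  rw [hV16] at hc
  have hker : 4 ≤ Nat.card δ.ker := by
    have := card_le_of_le hrk
    by_contra hlt
    have h3 : Nat.card δ.ker * Nat.card δ.range ≤ 3 * 3 := Nat.mul_le_mul (by omega) (by omega)
    omega
  obtain ⟨p, hp, q, hq, hp1, hq1, hpq⟩ : ∃ p ∈ δ.ker, ∃ q ∈ δ.ker, p ≠ 1 ∧ q ≠ 1 ∧ p ≠ q := by
    haveI : Nontrivial δ.ker := Finite.one_lt_card_iff_nontrivial.mp (by omega)
    obtain ⟨p, hp1⟩ := exists_ne (1 : δ.ker)
    by_contra hno
    push Not at hno
    have : Nat.card δ.ker ≤ Nat.card Bool := Nat.card_le_card_of_injective (fun r => decide (r = 1)) fun r r' hrr => by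
      simp only [decide_eq_decide] at hrr
      rcases eq_or_ne r 1 with hr | hr
      · rw [hr, hrr.mp hr]
      · have hr' : r' ≠ 1 := fun e => hr (hrr.mpr e)
        refine Subtype.ext ?_
        rw [← hno p p.2 r r.2 (fun e => hp1 (Subtype.ext e)) (fun e => hr (Subtype.ext e)),
          ← hno p p.2 r' r'.2 (fun e => hp1 (Subtype.ext e)) (fun e => hr' (Subtype.ext e))]
    rw [Nat.card_eq_fintype_card (α := Bool), Fintype.card_bool] at this
    omega
  have key : ∀ g : W, π g ∈ δ.ker → π g ≠ 1 → g * g = z := by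
    intro g hg hg1
    have hgZ : g ∉ center W := fun hh => hg1 ((QuotientGroup.eq_one_iff _).mpr hh)
    have e1 : π g * π (σ g) = 1 := hg
    rw [← map_mul] at e1
    have hζ := (QuotientGroup.eq_one_iff _).mp e1
    have hs : σ (g * g) = g * g := by
      rw [map_mul]
      set ζ := g * σ g with hζd
      have hsg : σ g = g⁻¹ * ζ := by rw [hζd]; group
      rw [hsg, show g⁻¹ * ζ * (g⁻¹ * ζ) = g⁻¹ * (ζ * g⁻¹) * ζ by group, ← mem_center_iff.mp hζ g⁻¹,
        show g⁻¹ * (g⁻¹ * ζ) * ζ = (g * g)⁻¹ * (ζ * ζ) by group, h.cen _ hζ, mul_one]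
      exact inv_eq_of_mul_eq_one_right (h.cen _ (h.sq g))
    rcases klein_list h.card_center h.cen (fun u hu b => mem_center_iff.mp hu b) hz ha hz1 ha1 hza _ (h.sq g) with
      e | e | e | e
    · exact absurd (h.inv g e) hgZ
    · exact e
    · rw [e, hσa] at hs
      exact absurd (mul_eq_right.mp hs) hz1
    · rw [e, map_mul, hσz, hσa] at hs
      exact absurd (mul_eq_right.mp (mul_left_cancel hs)) hz1
  obtain ⟨v, rfl⟩ := QuotientGroup.mk'_surjective (center W) p
  obtain ⟨w, rfl⟩ := QuotientGroup.mk'_surjective (center W) q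
  refine h.no_line hz ha hz1 ha1 hza (key v hp hp1) (key w hq hq1) (key (v * w) ?_ ?_)
  · rw [map_mul]; exact mul_mem hp hq
  · rw [map_mul]
    exact fun e => hpq (by rw [eq_inv_of_mul_eq_one_left e, inv_eq_of_mul_eq_one_right (hV2 _)])

end CfsgLib.SuzukiTwo

namespace CfsgLib.RankTwoSylow

open Subgroup

universe u
variable {S : Type u} [Group S] [Finite S]

/-- A normal four-group with a central involution `z`, and the rank condition. -/
structure Frame (S : Type u) [Group S] (z a : S) : Prop where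
  pgroup : IsPGroup 2 S
  rank : Cfsg.PRankLE 2 2 S
  z2 : z * z = 1
  a2 : a * a = 1
  z1 : z ≠ 1
  a1 : a ≠ 1
  za : z ≠ a
  zc : ∀ g : S, g * z = z * g
  conj : ∀ g : S, g * a * g⁻¹ = a ∨ g * a * g⁻¹ = z * a

namespace Frame

variable {z a : S} (h : Frame S z a)
include h

theorem a_mem : a ∈ centralizer ({a} : Set S) := mem_centralizer_singleton_iff.mpr rfl

theorem z_mem : z ∈ centralizer ({a} : Set S) := mem_centralizer_singleton_iff.mpr (h.zc a).symm

theorem swap {g : S} (hg : g ∉ centralizer ({a} : Set S)) : g * a * g⁻¹ = z * a :=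
  (h.conj g).resolve_left fun e => hg (mem_centralizer_singleton_iff.mpr (mul_inv_eq_iff_eq_mul.mp e))

theorem mul_mem' {g k : S} (hg : g ∉ centralizer ({a} : Set S)) (hk : k ∉ centralizer ({a} : Set S)) :
    g * k ∈ centralizer ({a} : Set S) := by
  refine mem_centralizer_singleton_iff.mpr (mul_inv_eq_iff_eq_mul.mp ?_)
  calc g * k * a * (g * k)⁻¹ = g * (k * a * k⁻¹) * g⁻¹ := by group
    _ = (g * z * g⁻¹) * (g * a * g⁻¹) := by rw [h.swap hk]; group
    _ = a := by rw [h.swap hg, mul_inv_eq_iff_eq_mul.mpr (h.zc g), ← mul_assoc, h.z2, one_mul]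

theorem conj_mem {t : S} (ht : t ∈ centralizer ({a} : Set S)) (g : S) :
    g * t * g⁻¹ ∈ centralizer ({a} : Set S) := by
  have ht' : t * a = a * t := mem_centralizer_singleton_iff.mp ht
  have hzt : t * (z * a) * t⁻¹ = z * a := by
    rw [mul_inv_eq_iff_eq_mul, ← mul_assoc, h.zc t, mul_assoc, ht', ← mul_assoc]
  refine mem_centralizer_singleton_iff.mpr (mul_inv_eq_iff_eq_mul.mp ?_)
  calc g * t * g⁻¹ * a * (g * t * g⁻¹)⁻¹ = g * (t * (g⁻¹ * a * g⁻¹⁻¹) * t⁻¹) * g⁻¹ := by group
    _ = g * (g⁻¹ * a * g⁻¹⁻¹) * g⁻¹ := by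
      rcases h.conj g⁻¹ with e | e <;> rw [e]
      · rw [ht', mul_inv_cancel_right]
      · rw [hzt]
    _ = a := by group

theorem omega {t : S} (ht : t ∈ centralizer ({a} : Set S)) (ht2 : t * t = 1) :
    t = 1 ∨ t = z ∨ t = a ∨ t = z * a := by
  by_contra hc
  push Not at hc
  exact eight_absurd h.rank ht2 h.a2 h.z2 (mem_centralizer_singleton_iff.mp ht) (h.zc t) (h.zc a) h.z1 h.a1
    h.za.symm hc.1 hc.2.1 hc.2.2.1 (by rw [h.zc a]; exact hc.2.2.2)

theorem rank_one : ¬ Cfsg.PRankLE 2 1 S := fun h1 => by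
  classical
  let F := fourOf z a h.z2 h.a2 (h.zc a).symm
  have hF := isFour_fourOf z a h.z2 h.a2 (h.zc a).symm h.z1 h.a1 h.za
  have hc : ∀ w ∈ F, Commute w z ∧ Commute w a := by
    intro w hw
    have hza : Commute z a := (h.zc a).symm
    rcases hF.list w hw with e | e | e | e <;> subst e
    exacts [⟨Commute.one_left _, Commute.one_left _⟩, ⟨Commute.refl _, hza⟩, ⟨hza.symm, Commute.refl _⟩,
      ⟨(Commute.refl _).mul_left hza.symm, hza.mul_left (Commute.refl _)⟩]
  have h2 := h1 F ⟨⟨fun u v => Subtype.ext (show (u : S) * v = v * u from by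
    obtain ⟨c1, c2⟩ := hc u u.2
    rcases hF.list v v.2 with e | e | e | e <;> rw [e]
    exacts [Commute.one_right _, c1, c2, c1.mul_right c2])⟩⟩ fun w hw => by
      rcases hF.list w hw with e | e | e | e <;> subst e
      exacts [one_pow 2, by rw [pow_two, h.z2], by rw [pow_two, h.a2],
        by rw [(show Commute z a from (h.zc a).symm).mul_pow, pow_two, pow_two, h.z2, h.a2, one_mul]]
  let s : Finset S := {1, z, a}
  have hs : s.card = 3 := by
    simp only [s]
    rw [Finset.card_insert_of_notMem, Finset.card_insert_of_notMem, Finset.card_singleton] <;>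
      simp only [Finset.mem_insert, Finset.mem_singleton, not_or]
    · exact h.za
    · exact ⟨Ne.symm h.z1, Ne.symm h.a1⟩
  have hsub : (s : Set S) ⊆ F := by
    intro w hw
    simp only [s, Finset.coe_insert, Finset.coe_singleton, Set.mem_insert_iff, Set.mem_singleton_iff] at hw
    rcases hw with rfl | rfl | rfl
    exacts [F.one_mem, hF.hz, hF.ha]
  have : 3 ≤ Nat.card F := by
    rw [← hs, ← Set.ncard_coe_finset, ← SetLike.coe_sort_coe, Nat.card_coe_set_eq]
    exact Set.ncard_le_ncard hsub (Set.toFinite _)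
  norm_num at h2
  omega

/-- The centralizer of `a` with an automorphism transitive on its involutions. -/
theorem shape (φ : MulAut ↥(centralizer ({a} : Set S)))
    (htrans : ∀ t u : ↥(centralizer ({a} : Set S)), t ≠ 1 → t * t = 1 → u ≠ 1 → u * u = 1 → ∃ k : ℕ, (φ ^ k) t = u)
    {s : S} (hs : s ∉ centralizer ({a} : Set S)) : Shape S := by
  classical
  revert φ htrans
  set T := centralizer ({a} : Set S) with hT
  intro φ htrans
  haveI : Fact (Nat.Prime 2) := ⟨Nat.prime_two⟩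
  have hza1 : z * a ≠ 1 := fun e => h.za (by
    rw [eq_inv_of_mul_eq_one_left e, inv_eq_of_mul_eq_one_left h.a2])
  have hH : CfsgLib.SuzukiTwo.Hyp T φ := ⟨h.pgroup.to_subgroup T,
    fun x y hx1 hx hy1 hy => htrans x y hx1 hx hy1 hy,
    ⟨⟨z, h.z_mem⟩, ⟨a, h.a_mem⟩, fun e => h.za (congrArg Subtype.val e), fun e => h.z1 (congrArg Subtype.val e),
      Subtype.ext h.z2, fun e => h.a1 (congrArg Subtype.val e), Subtype.ext h.a2⟩⟩
  have hfour : Nat.card {x : T // x * x = 1} = 4 := by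
    rw [← Nat.card_fin 4]
    refine (Nat.card_congr (Equiv.ofBijective (fun i : Fin 4 => (![⟨1, one_mul 1⟩, ⟨⟨z, h.z_mem⟩, Subtype.ext h.z2⟩,
      ⟨⟨a, h.a_mem⟩, Subtype.ext h.a2⟩,
      ⟨⟨z * a, mul_mem h.z_mem h.a_mem⟩, Subtype.ext (by
        show z * a * (z * a) = 1
        rw [show z * a * (z * a) = z * (a * z) * a by group, h.zc a,
          show z * (z * a) * a = z * z * (a * a) by group, h.z2, h.a2, one_mul])⟩] :
      Fin 4 → {x : T // x * x = 1}) i) ⟨?_, ?_⟩)).symm
    · intro i j hij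
      have e := congrArg (fun w : {x : T // x * x = 1} => ((w : T) : S)) hij
      have n1 : z * a ≠ z := fun e => h.a1 (mul_eq_left.mp e)
      have n2 : z * a ≠ a := fun e => h.z1 (mul_eq_right.mp e)
      fin_cases i <;> fin_cases j <;>
        simp [h.z1, h.z1.symm, h.a1, h.a1.symm, h.za, h.za.symm, hza1, hza1.symm, n1, n1.symm, n2, n2.symm] at e ⊢
    · rintro ⟨⟨t, ht⟩, ht2⟩
      rcases h.omega ht (congrArg Subtype.val ht2) with e | e | e | e
      exacts [⟨0, Subtype.ext (Subtype.ext e.symm)⟩, ⟨1, Subtype.ext (Subtype.ext e.symm)⟩,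
        ⟨2, Subtype.ext (Subtype.ext e.symm)⟩, ⟨3, Subtype.ext (Subtype.ext e.symm)⟩]
  have hsT : ∀ t ∈ T, s * t * s⁻¹ ∈ T := fun t ht => h.conj_mem ht s
  by_cases hne : ∃ x y : T, x * y ≠ y * x
  · exfalso
    have h60 := hH.sixty (CfsgLib.SuzukiTwo.good _ φ hH hne) hne hfour
    let σ : MulAut T :=
      { toFun := fun t => ⟨s * t * s⁻¹, hsT t t.2⟩
        invFun := fun t => ⟨s⁻¹ * t * s⁻¹⁻¹, h.conj_mem t.2 s⁻¹⟩
        left_inv := fun t => Subtype.ext (show s⁻¹ * (s * (t : S) * s⁻¹) * s⁻¹⁻¹ = t by group)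
        right_inv := fun t => Subtype.ext (show s * (s⁻¹ * (t : S) * s⁻¹⁻¹) * s⁻¹ = t by group)
        map_mul' := fun t t' => Subtype.ext (show s * ((t : S) * t') * s⁻¹ = s * t * s⁻¹ * (s * t' * s⁻¹) by group) }
    exact h60.no_swap σ (u := ⟨s * s, h.mul_mem' hs hs⟩) (z := ⟨z, h.z_mem⟩) (a := ⟨a, h.a_mem⟩)
      (fun v => Subtype.ext (show s * (s * (v : S) * s⁻¹) * s⁻¹ = s * s * v * (s * s)⁻¹ by group))
      (h60.inv _ (Subtype.ext h.z2)) (h60.inv _ (Subtype.ext h.a2)) (fun e => h.z1 (congrArg Subtype.val e))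
      (fun e => h.a1 (congrArg Subtype.val e)) (fun e => h.za (congrArg Subtype.val e))
      (Subtype.ext (mul_inv_eq_iff_eq_mul.mpr (h.zc s))) (Subtype.ext (h.swap hs))
  push Not at hne
  obtain ⟨n, hn1, ⟨e⟩⟩ := hH.homocyclic hne hfour
  haveI : NeZero (2 ^ n) := ⟨pow_ne_zero _ two_ne_zero⟩
  have hTcard : Nat.card T = 2 ^ n * 2 ^ n := by
    rw [Nat.card_congr e.toEquiv, Nat.card_congr Multiplicative.toAdd, Nat.card_prod, Nat.card_zmod]
  rcases eq_or_lt_of_le hn1 with rfl | hn2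
  · exact shape_of_card_four h.pgroup h.rank_one (orderOf_eq_prime (by rw [pow_two, h.a2]) h.a1)
      (by rw [← hT, hTcard]; norm_num)
  refine Or.inr (Or.inr ⟨n, hn2, ?_, ?_⟩)
  · have hidx : T.index = 2 := by
      refine index_eq_two_iff.mpr ⟨s, fun b => ?_⟩
      by_cases hb : b ∈ T
      · exact Or.inr ⟨hb, fun hh => hs (by simpa using T.mul_mem (T.inv_mem hb) hh)⟩
      · exact Or.inl ⟨h.mul_mem' hb hs, hb⟩
    rw [← T.card_mul_index, hidx, hTcard, ← pow_add, ← pow_succ, two_mul]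
  obtain ⟨f, rfl⟩ : ∃ f, n = f + 1 := ⟨n - 1, by omega⟩
  obtain ⟨x, hxa⟩ : ∃ x : T, x ^ 2 ^ f = ⟨a, h.a_mem⟩ := by
    have hc2 : (e ⟨a, h.a_mem⟩).toAdd + (e ⟨a, h.a_mem⟩).toAdd = 0 := by
      rw [← toAdd_mul, ← map_mul, show (⟨a, h.a_mem⟩ : T) * ⟨a, h.a_mem⟩ = 1 from Subtype.ext h.a2, map_one, toAdd_one]
    have hd : ∀ c : ZMod (2 ^ (f + 1)), c + c = 0 → ∃ d : ZMod (2 ^ (f + 1)), (2 ^ f) • d = c := by
      intro c hc
      rcases CfsgLib.SuzukiTwo.zmod_two_torsion c hc with rfl | rfl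
      · exact ⟨0, smul_zero _⟩
      · exact ⟨1, nsmul_one _⟩
    obtain ⟨d₁, hd₁⟩ := hd _ (congrArg Prod.fst hc2)
    obtain ⟨d₂, hd₂⟩ := hd _ (congrArg Prod.snd hc2)
    refine ⟨e.symm (Multiplicative.ofAdd (d₁, d₂)), ?_⟩
    rw [← map_pow, MulEquiv.symm_apply_eq, ← ofAdd_nsmul]
    exact congrArg Multiplicative.ofAdd (Prod.ext hd₁ hd₂)
  have hxa' : (x : S) ^ 2 ^ f = a := congrArg Subtype.val hxa
  set X : S := (x : S) with hX
  set Y : S := s * X * s⁻¹ with hY
  have hYT : Y ∈ T := hsT X x.2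
  have hTc : ∀ t ∈ T, ∀ u ∈ T, t * u = u * t := fun t ht u hu => congrArg Subtype.val (hne ⟨t, ht⟩ ⟨u, hu⟩)
  have hoX : orderOf X = 2 ^ (f + 1) :=
    orderOf_eq_prime_pow (by rw [hxa']; exact h.a1) (by rw [pow_succ, pow_mul, hxa', pow_two, h.a2])
  have hYa : Y ^ 2 ^ f = z * a := by rw [hY, conj_pow, hxa', h.swap hs]
  have hoY : orderOf Y = 2 ^ (f + 1) :=
    orderOf_eq_prime_pow (by rw [hYa]; exact hza1) (by
      rw [pow_succ, pow_mul, hYa, pow_two, show z * a * (z * a) = z * (a * z) * a by group, h.zc a,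
        show z * (z * a) * a = z * z * (a * a) by group, h.z2, h.a2, one_mul])
  have hdisj : zpowers X ⊓ zpowers Y = ⊥ := by
    by_contra hb
    obtain ⟨u, hu, hu1⟩ := (Subgroup.bot_or_exists_ne_one _).resolve_left hb
    obtain ⟨j, hj⟩ := h.pgroup u
    have hex : ∃ j, u ^ 2 ^ j = 1 := ⟨j, hj⟩
    have hne0 : Nat.find hex ≠ 0 := fun hh => hu1 (by
      have h' := Nat.find_spec hex
      rwa [hh, pow_zero, pow_one] at h')
    obtain ⟨i, hi⟩ := Nat.exists_eq_succ_of_ne_zero hne0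
    have hw1 : u ^ 2 ^ i ≠ 1 := Nat.find_min hex (by omega)
    have hw2 : (u ^ 2 ^ i) ^ 2 = 1 := by
      have h' := Nat.find_spec hex
      rwa [hi, pow_succ, pow_mul] at h'
    have e1 := CfsgLib.Connectivity.eq_of_sq (pow_mem hu.1 (2 ^ i)) (show a ∈ zpowers X from hxa' ▸ npow_mem_zpowers _ _)
      hw2 (by rw [pow_two, h.a2]) hw1 h.a1
    have e2 := CfsgLib.Connectivity.eq_of_sq (pow_mem hu.2 (2 ^ i)) (show z * a ∈ zpowers Y from hYa ▸ npow_mem_zpowers _ _)
      hw2 (by rw [pow_two, show z * a * (z * a) = z * (a * z) * a by group, h.zc a,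
        show z * (z * a) * a = z * z * (a * a) by group, h.z2, h.a2, one_mul]) hw1 hza1
    exact h.z1 (mul_eq_right.mp (e2.symm.trans e1))
  -- every element of `T` is a product of powers of `X` and `Y`
  have hXT : zpowers X ≤ T := zpowers_le.mpr x.2
  have hYT' : zpowers Y ≤ T := zpowers_le.mpr hYT
  have hbij : Function.Bijective (fun p : zpowers X × zpowers Y => (⟨p.1 * p.2, mul_mem (hXT p.1.2) (hYT' p.2.2)⟩ : T)) := by
    refine (Nat.bijective_iff_injective_and_card _).mpr ⟨?_, ?_⟩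
    · rintro ⟨p, q⟩ ⟨p', q'⟩ hpq
      have e' : (p : S) * q = p' * q' := congrArg Subtype.val hpq
      have hm : (p' : S)⁻¹ * p ∈ zpowers X ⊓ zpowers Y := ⟨(zpowers X).mul_mem ((zpowers X).inv_mem p'.2) p.2, by
        have : (p' : S)⁻¹ * p = q' * (q : S)⁻¹ := by
          rw [eq_mul_inv_iff_mul_eq, mul_assoc, e', inv_mul_cancel_left]
        rw [this]; exact (zpowers Y).mul_mem q'.2 ((zpowers Y).inv_mem q.2)⟩
      rw [hdisj, mem_bot, inv_mul_eq_one] at hm
      have : p' = p := Subtype.ext hm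
      subst this
      exact Prod.ext rfl (Subtype.ext (mul_left_cancel e'))
    · rw [Nat.card_prod, Nat.card_zpowers, Nat.card_zpowers, hoX, hoY, hTcard]
  obtain ⟨⟨⟨p, hp⟩, ⟨q, hq⟩⟩, hpq⟩ := hbij.2 ⟨s * s, h.mul_mem' hs hs⟩
  obtain ⟨i, rfl⟩ := mem_zpowers_iff.mp hp
  obtain ⟨j, rfl⟩ := mem_zpowers_iff.mp hq
  have hss : X ^ i * Y ^ j = s * s := congrArg Subtype.val hpq
  have hsY : s * Y * s⁻¹ = X := by
    rw [hY, show s * (s * X * s⁻¹) * s⁻¹ = s * s * X * (s * s)⁻¹ by group, hTc _ (h.mul_mem' hs hs) X x.2,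
      mul_inv_cancel_right]
  -- the exponents agree modulo the order
  have hij : Y ^ j = Y ^ i := by
    have h1 : s * (X ^ i * Y ^ j) * s⁻¹ = Y ^ i * X ^ j := by
      rw [show s * (X ^ i * Y ^ j) * s⁻¹ = s * X ^ i * s⁻¹ * (s * Y ^ j * s⁻¹) by group, ← conj_zpow, ← conj_zpow,
        hsY, ← hY]
    rw [hss, show s * (s * s) * s⁻¹ = s * s by group, ← hss,
      hTc _ (zpow_mem hYT i) _ (zpow_mem x.2 j)] at h1
    have hm : X ^ (i - j) ∈ zpowers X ⊓ zpowers Y := ⟨zpow_mem_zpowers _ _, by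
      rw [show X ^ (i - j) = Y ^ i * (Y ^ j)⁻¹ by
        rw [eq_mul_inv_iff_mul_eq, zpow_sub]
        calc X ^ i * (X ^ j)⁻¹ * Y ^ j = (X ^ j)⁻¹ * (X ^ i * Y ^ j) := by
              rw [← zpow_neg, ← zpow_add, ← mul_assoc, ← zpow_add, add_comm]
          _ = Y ^ i := by rw [h1, inv_mul_cancel_left]]
      exact (zpowers Y).mul_mem (zpow_mem_zpowers _ _) ((zpowers Y).inv_mem (zpow_mem_zpowers _ _))⟩
    rw [hdisj, mem_bot, zpow_sub, mul_inv_eq_one] at hm
    rw [← hm] at h1
    exact mul_left_cancel h1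
  rw [hij] at hss
  refine ⟨X, Y, X ^ (-i) * s, hoX, hTc _ x.2 _ hYT, hdisj, ?_, ?_⟩
  · refine orderOf_eq_prime ?_ fun e1 => hs ?_
    · have hsX : s * X ^ (-i) * s⁻¹ = Y ^ (-i) := by rw [← conj_zpow]
      calc (X ^ (-i) * s) ^ 2 = X ^ (-i) * (s * X ^ (-i) * s⁻¹) * (s * s) := by rw [pow_two]; group
        _ = X ^ (-i) * Y ^ (-i) * (Y ^ i * X ^ i) := by
          rw [hsX, ← hss, hTc _ (zpow_mem x.2 i) _ (zpow_mem hYT i)]
        _ = 1 := by rw [mul_assoc, ← mul_assoc (Y ^ (-i)), ← zpow_add, neg_add_cancel, zpow_zero, one_mul,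
          ← zpow_add, neg_add_cancel, zpow_zero]
    · have : s = X ^ i := by
        rw [show s = X ^ i * (X ^ (-i) * s) by group, e1, mul_one]
      rw [this]; exact zpow_mem x.2 i
  · calc X ^ (-i) * s * X * (X ^ (-i) * s)⁻¹ = X ^ (-i) * Y * X ^ i := by rw [hY]; group
      _ = Y := by rw [hTc _ (zpow_mem x.2 (-i)) Y hYT, mul_assoc, ← zpow_add, neg_add_cancel, zpow_zero, mul_one]

end Frame

end CfsgLib.RankTwoSylow
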