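import Cfsg.Agent.Lib.RankTwoSylow.Constrained
import Cfsg.Agent.Lib.Fusion.Inner
import Cfsg.Agent.S5290
import Cfsg.Agent.S5337

/-!
A simple system on a 2-group of rank two is not constrained and has trivial centre.
-/

set_option autoImplicit false

open Subgroup Cfsg Cfsg.FusionSystem

namespace CfsgLib.RankTwoSylow

variable {Ω : Type*} [Group Ω] {S : Subgroup Ω} [Finite S] {F : Cfsg.FusionSystem S}

/-- In a simple system a normal subgroup containing its centralizer, or abelian, is trivial or everything. -/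
theorem eq_of_normal_of_isSimple (hS : IsPGroup 2 S) (hF : F.IsSimple 2) {Q : Subgroup Ω} (hQ : F.IsNormal Q)
    (h : centralizerIn S Q ≤ Q ∨ ∀ x ∈ Q, ∀ y ∈ Q, x * y = y * x) :
    Q = ⊥ ∨ (Q = S ∧ ∀ P : Subgroup Ω, (Cfsg.innerFusionSystem Q).Hom P = F.Hom P) := by
  haveI : Fact (Nat.Prime 2) := ⟨Nat.prime_two⟩
  refine hF.2.2 Q _ ⟨(Cfsg.Agent.S5290.result 2 hS F hF.1 Q hQ.1).mp hQ, fun α hα => ?_⟩
  rw [Cfsg.FusionSystem.autGroup_innerFusionSystem le_rfl] at hα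
  obtain ⟨g, hg, -, he⟩ := Cfsg.mem_autInducedBy_iff.mp hα
  have hU : Q ⊔ centralizerIn S Q ≤ S := sup_le hQ.1 inf_le_left
  rcases h with h | h
  · refine ⟨MulAut.conj (⟨g, mem_sup_left hg⟩ : ↥(Q ⊔ centralizerIn S Q)), ?_, fun x => (he x).symm, ?_⟩
    · refine F.mem_autGroup_of_map (F.conj_mem hU (hQ.1 hg)) fun x => ?_
      rfl
    · intro c hc
      have hcg : g * (c : Ω) = c * g := hc.2 g hg
      show (c : Ω)⁻¹ * (g * c * g⁻¹) ∈ _
      rw [hcg, mul_inv_cancel_right, inv_mul_cancel]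
      exact one_mem _
  · refine ⟨1, one_mem _, fun x => ?_, fun c _ => ?_⟩
    · rw [he x, h g hg x x.2, mul_inv_cancel_right]
      rfl
    · show (c : Ω)⁻¹ * (c : Ω) ∈ _
      rw [inv_mul_cancel]
      exact one_mem _

theorem center_eq_bot_of_isSimple (hS : IsPGroup 2 S) (hF : F.IsSimple 2)
    (hr : Cfsg.PRankAtLeast 2 2 ↥S) : F.center = ⊥ := by
  haveI : Fact (Nat.Prime 2) := ⟨Nat.prime_two⟩
  have hc : F.IsCentral F.center := F.isCentral_center
  have hcomm : ∀ x ∈ F.center, ∀ s ∈ S, x * s = s * x := fun x hx s hs => by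
    have h := hc.isConjElt_eq hx ⟨_, F.conj_mem (Subgroup.zpowers_le.mpr (hc.1 hx)) hs, rfl⟩
    exact (mul_inv_eq_iff_eq_mul.mp h).symm
  rcases eq_of_normal_of_isSimple hS hF hc.isNormal (Or.inr fun x hx y hy => hcomm x hx y (hc.1 hy)) with h | ⟨h, -⟩
  · exact h
  exfalso
  have hab : ∀ x ∈ S, ∀ y ∈ S, x * y = y * x := fun x hx y hy => hcomm x (h.ge hx) y hy
  obtain ⟨hcard, -⟩ := (Cfsg.Agent.S5337.result 2 hS F hF.1 hab).mp hF
  obtain ⟨A, -, -, hA⟩ := hr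
  have := hA.trans A.card_le_card_group
  omega

theorem not_constrained_of_isSimple (hS : IsPGroup 2 S) (hF : F.IsSimple 2)
    (hr : Cfsg.PRankAtLeast 2 2 ↥S) : ¬ F.IsConstrained 2 := by
  haveI : Fact (Nat.Prime 2) := ⟨Nat.prime_two⟩
  rintro ⟨-, Q, hQ, hQc⟩
  have hcent : centralizerIn S Q ≤ Q := hQc.2 Q (F.isConj_refl hQc.1)
  rcases eq_of_normal_of_isSimple hS hF hQ (Or.inl hcent) with h | ⟨h, heq⟩
  · subst h
    refine hF.2.1 (eq_bot_iff.mpr fun s hs => hcent ⟨hs, ?_⟩)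
    rintro _ rfl
    simp
  subst h
  -- the inner system has a nontrivial centre
  haveI : Nontrivial Q := (Subgroup.nontrivial_iff_ne_bot Q).mpr hF.2.1
  haveI := hS.center_nontrivial
  obtain ⟨⟨c, hc⟩, hc1⟩ := exists_ne (1 : Subgroup.center Q)
  have hcen : F.IsCentral (Subgroup.zpowers (c : Ω)) := by
    refine F.isCentral_of_isConjElt_eq hF.1 (Subgroup.zpowers_le.mpr c.2) fun x hx y hy => ?_
    obtain ⟨φ, hφ, rfl⟩ := hy
    rw [← heq] at hφ
    obtain ⟨-, g, hg, he⟩ := hφ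
    rw [he]
    obtain ⟨i, rfl⟩ := Subgroup.mem_zpowers_iff.mp hx
    have hgc : Commute g (c : Ω) := congrArg Subtype.val (Subgroup.mem_center_iff.mp hc ⟨g, hg⟩)
    exact mul_inv_eq_iff_eq_mul.mpr (hgc.zpow_right i)
  have hle := hcen.le_center
  rw [center_eq_bot_of_isSimple hS hF hr] at hle
  exact hc1 (Subtype.ext (Subtype.ext (Subgroup.mem_bot.mp (hle (Subgroup.mem_zpowers _)))))

/-- A simple system on a 2-group of rank two lives on one of three shapes. -/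
theorem shape_of_isSimple (hS : IsPGroup 2 S) (hF : F.IsSimple 2)
    (hr : Cfsg.PRankAtLeast 2 2 ↥S ∧ ¬ Cfsg.PRankAtLeast 2 3 ↥S) :
    (∃ m : ℕ, 4 ≤ m ∧ Nonempty (↥S ≃* DihedralGroup m)) ∨ Cfsg.IsQuasiDihedral ↥S ∨ Cfsg.IsWreathed ↥S :=
  (constrained_or_shape hS F hF.1 hr (center_eq_bot_of_isSimple hS hF hr.1)).resolve_left
    (not_constrained_of_isSimple hS hF hr.1)

end CfsgLib.RankTwoSylow
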