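import Cfsg.Agent.Lib.Fusion.RankTwoReal.Shape
import Cfsg.Agent.Lib.Fusion.RankTwoReal.ModelBasic
import Cfsg.Agent.Lib.Fusion.SimpleRealizer

/-!
A simple system with two candidates is realized by any group without subgroup of index two on the same
2-group.
-/

set_option autoImplicit false

namespace Cfsg

namespace FusionSystem

namespace RankTwo

universe u v

variable {Ω : Type u} [Group Ω] {S : Subgroup Ω} [Finite S]

theorem moves_of_isRealizedBy {F : FusionSystem S} {G : Type v} [Group G] {ι : S →* G} (h : F.IsRealizedBy ι)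
    {P : Subgroup Ω} (hP : P ≤ S) (hm : Moves (pullbackSystem ι h.1) P) : Moves F P := by
  obtain ⟨α, hα, h1, ho⟩ := hm
  refine ⟨α, ?_, h1, ho⟩
  obtain ⟨g, hg⟩ := (mem_pullback_autGroup ι h.1 hP).1 hα
  rw [F.mem_autGroup_iff hP]
  exact (h.2 P hP _ fun x => hP (α x).2).2 ⟨g, hg⟩

theorem realizedBy_of_isSimple {A cA B cB : Subgroup S} (fr : IFrame A cA B cB) (hS : IsPGroup 2 S)
    (adj : IsAdjustable S (up A) (up B) fr.isFrame.candA.le) (rig : IsRigid S (up B))
    (hA : ¬ ⊤ ≤ cA ⊔ commutator S) (hB : ¬ ⊤ ≤ cB ⊔ commutator S) (h4 : 4 ≤ Nat.card S)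
    (F : FusionSystem S) (hF : F.IsSimple 2) (hreal : F.IsRealizable 2)
    {G₀ : Type v} [Group G₀] [Finite G₀] (T₀ : Sylow 2 G₀) (e : S ≃* T₀) (hG₀ : ∀ K : Subgroup G₀, K.index ≠ 2) :
    ∃ ι : S →* G₀, F.IsRealizedBy ι ∧ ∃ T : Sylow 2 G₀, (T : Subgroup G₀) = ι.range := by
  haveI : Fact (Nat.Prime 2) := ⟨Nat.prime_two⟩
  obtain ⟨G, _, _, _, ι', hι', T', hT'⟩ := hF.exists_simple_realizer hS hreal
  have hG : ∀ K : Subgroup G, K.index ≠ 2 := no_index_two_of_simple (by
    have h := Nat.card_le_card_of_injective ι' hι'.1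
    omega)
  have f := fr.isFrame
  have hle : up A ≤ S := f.candA.le
  have hle' : up B ≤ S := f.candB.le
  have hmA : Moves F (up A) :=
    moves_of_isRealizedBy hι' hle (f.moves_of_no_index_two (hι := hι'.1) T' hT' hS (not_S_le_of_top hB) hG)
  have hmB : Moves F (up B) :=
    moves_of_isRealizedBy hι' hle' (f.symm.moves_of_no_index_two (hι := hι'.1) T' hT' hS (not_S_le_of_top hA) hG)
  set ι : S →* G₀ := (T₀ : Subgroup G₀).subtype.comp e.toMonoidHom with hιd
  have hι : Function.Injective ι := Subtype.coe_injective.comp e.injective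
  have hT : (T₀ : Subgroup G₀) = ι.range := by
    ext x
    constructor
    · intro hx
      exact ⟨e.symm ⟨x, hx⟩, by simp [hιd]⟩
    · rintro ⟨s, rfl⟩
      exact (e s).2
  have hE := pullbackSystem_isSaturated ι hι T₀ hT
  have hEA : Moves (pullbackSystem ι hι) (up A) :=
    f.moves_of_no_index_two (hι := hι) T₀ hT hS (not_S_le_of_top hB) hG₀
  have hEB : Moves (pullbackSystem ι hι) (up B) :=
    f.symm.moves_of_no_index_two (hι := hι) T₀ hT hS (not_S_le_of_top hA) hG₀
  obtain ⟨β, γ, hγ, ⟨s, hs, hsB⟩, hmap⟩ :=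
    adj _ _ (f.candA.isBig hS hF.1 hmA) (f.candA.isBig hS hE hEA)
  have hrange := hT.trans (range_comp β).symm
  have hE' := pullbackSystem_isSaturated _ (comp_injective hι β) T₀ hrange
  refine ⟨ι.comp β.toMonoidHom, f.realizedBy_of_agree hS hF.1 _ (comp_injective hι β) T₀ hrange ?_ ?_, T₀, hrange⟩
  · ext α
    rw [mem_autGroup_comp (hι := hι) β hle hle γ hγ, ← hmap]
    exact ⟨fun h => Subgroup.mem_map_of_mem _ h, fun ⟨α', hα', e⟩ => (MulAut.congr γ).injective e ▸ hα'⟩
  · refine rig _ _ (f.candB.isBig hS hF.1 hmB) (f.candB.isBig hS hE' ?_)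
    exact (moves_comp_iff β hle' hsB.symm).2 ((moves_conj_iff hle' hs).2 hEB)

end RankTwo

end FusionSystem

end Cfsg
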